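import Cfsg.Agent.H9.HH3
import Cfsg.Agent.H1.Generation

/-! Local versions of the Hall–Higman theorem B. -/

set_option autoImplicit false

namespace Cfsg.Agent.H9

open Module LinearMap Subgroup
open scoped commutatorElement

variable {K : Type*} [Field K] {W U : Type*} [AddCommGroup W] [Module K W] [AddCommGroup U]
  [Module K U] {G : Type*} [Group G] {p : ℕ} [hp : Fact p.Prime]

theorem exists_irrRep_ne_one [FiniteDimensional K W] {Q : Type*} [Group Q] [Finite Q]
    (hQK : (Nat.card Q : K) ≠ 0) (ρ : Q →* End K W) (hρ : ∃ t, ρ t ≠ 1) :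
    ∃ (S : Submodule K W) (σ : Q →* End K S), IrrRep σ ∧ (∀ t v, (σ t v : W) = ρ t v) ∧
      ¬ ∀ t, σ t = 1 := by
  haveI := Fintype.ofFinite Q
  let e : End K W := ∑ t : Q, ρ t
  have he : ∀ (t : Q) v, e (ρ t v) = e v := fun t v => by
    simp only [e, LinearMap.sum_apply]
    rw [← Equiv.sum_comp (Equiv.mulRight t) fun s : Q => ρ s v]
    simp
  obtain ⟨S, σ, hσ, hS, hj⟩ := exists_irrRep_le ρ (W₀ := ker e) (by
    obtain ⟨t, h⟩ := hρ
    refine fun h0 => h (LinearMap.ext fun v => ker_eq_bot.mp h0 (he t v)))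
    fun t v hv => (he t v).trans hv
  haveI := hσ.1
  refine ⟨S, σ, hσ, hj, fun h => ?_⟩
  obtain ⟨v, hv⟩ := exists_ne (0 : S)
  have := mem_ker.mp (hS v.2)
  simp only [e, LinearMap.sum_apply] at this
  rw [Finset.sum_congr rfl (f := fun t : Q => ρ t v) (g := fun _ => (v : W))
    fun t _ => (hj t v).symm.trans (by simp [h]),
    Finset.sum_const, Finset.card_univ, ← Nat.cast_smul_eq_nsmul K,
    ← Nat.card_eq_fintype_card] at this
  exact hv (Subtype.ext ((smul_eq_zero.mp this).resolve_left hQK))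

theorem subtype_ne_zero {S : Submodule K W} [Nontrivial S] : S.subtype ≠ 0 :=
  fun h => top_ne_bot ((ker_eq_top.mpr h).symm.trans S.ker_subtype)

theorem pow_apply_of_intertwine {a : End K W} {u : End K U} {j : U →ₗ[K] W}
    (h : ∀ v, a (j v) = j (u v)) (i : ℕ) (v : U) : (a ^ i) (j v) = j ((u ^ i) v) := by
  induction i generalizing v with
  | zero => simp
  | succ i ih => rw [pow_succ, End.mul_apply, h, ih, pow_succ, End.mul_apply]

theorem sub_one_pow_apply_of_intertwine {a : End K W} {u : End K U} {j : U →ₗ[K] W}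
    (h : ∀ v, a (j v) = j (u v)) (i : ℕ) (v : U) :
    ((a - 1) ^ i) (j v) = j (((u - 1) ^ i) v) :=
  pow_apply_of_intertwine (fun v => by simp [h]) i v

/-- The elements acting as scalars. -/
def scalSub {Q : Type*} [Group Q] (σ : Q →* End K U) : Subgroup Q where
  carrier := {t | ∃ c : K, σ t = c • 1}
  one_mem' := ⟨1, by simp⟩
  mul_mem' := by
    rintro a b ⟨c, hc⟩ ⟨d, hd⟩
    exact ⟨c * d, by rw [map_mul, hc, hd, smul_mul_smul_comm, one_mul]⟩
  inv_mem' := by
    rintro a ⟨c, hc⟩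
    have h : c • σ a⁻¹ = 1 := by
      rw [← one_mul (σ a⁻¹), ← smul_mul_assoc, ← hc, ← map_mul, mul_inv_cancel, map_one]
    by_cases h0 : c = 0
    · exact ⟨0, by rw [← mul_one (σ a⁻¹), ← h, h0]; simp⟩
    · exact ⟨c⁻¹, by rw [← h, smul_smul, inv_mul_cancel₀ h0, one_smul]⟩

theorem mem_scalSub {Q : Type*} [Group Q] {σ : Q →* End K U} {t : Q} :
    t ∈ scalSub σ ↔ ∃ c : K, σ t = c • 1 := Iff.rfl

variable {Q : Subgroup G} [Q.Normal] {σ : Q →* End K U}

theorem conjNormal_eq_of_mem_inertia {g : G} (hg : g ∈ inertia σ) {t : Q} {c : K}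
    (h : σ t = c • 1) : σ (MulAut.conjNormal g t) = c • 1 := by
  obtain ⟨u, hu⟩ := hg
  rw [← (Units.mul_inv_eq_iff_eq_mul u).mpr (hu t), h]; simp

theorem conjNormal_mem_scalSub {g : G} (hg : g ∈ inertia σ) {t : Q} (h : t ∈ scalSub σ) :
    MulAut.conjNormal g t ∈ scalSub σ :=
  h.imp fun _ h => conjNormal_eq_of_mem_inertia hg h

/-- If `g` fixes a copy of `σ` pointwise then `[Q, g]` acts trivially. -/
theorem eq_one_of_fixes {ρ : G →* End K W} {j : U →ₗ[K] W} (hinj : Function.Injective j)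
    (hj : ∀ t v, j (σ t v) = ρ t (j v)) {g : G} (hg : ∀ v, ρ g (j v) = j v) {i : ℕ} {t : Q}
    (ht : (t : G) ∈ ⁅Q, zpowers (g ^ i)⁆) : σ t = 1 := by
  let F : Subgroup G :=
    { carrier := {g | ∀ v, ρ g (j v) = j v}
      one_mem' := by simp
      mul_mem' := fun {a b} ha hb v => by rw [map_mul, End.mul_apply, hb, ha]
      inv_mem' := fun {a} ha v => by rw [← ha v, rep_inv_apply, ha] }
  have hF : zpowers (g ^ i) ≤ F := zpowers_le.mpr (pow_mem (show g ∈ F from hg) _)
  have : ⁅Q, zpowers (g ^ i)⁆ ≤ F := commutator_le.mpr fun t ht g hg v => by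
    have h5 := hj ⟨t, ht⟩⁻¹ v
    simp only [commutatorElement_def, map_mul, End.mul_apply]
    rw [hF (inv_mem hg) v, ← show _ = ρ t⁻¹ (j v) from h5, hF hg, h5]
    exact rep_apply_inv ρ t _
  exact LinearMap.ext fun v => hinj ((hj t v).trans (this ht v))

variable [IsAlgClosed K] [FiniteDimensional K U]

omit [Q.Normal] in
theorem IrrRep.mem_scalSub_of_mem_centralizer (hσ : IrrRep σ) {t : Q}
    (h : (t : G) ∈ centralizer (Q : Set G)) : t ∈ scalSub σ :=
  hσ.exists_eq_smul fun r => by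
    rw [← map_mul, ← map_mul]; exact congrArg σ (Subtype.ext (h r r.2))

/-- Elements which are distinct modulo scalars are linearly independent. -/
theorem IrrRep.card_le_sq {Q : Type*} [Group Q] {σ : Q →* End K U} (hσ : IrrRep σ)
    (hc : ∀ s t : Q, ⁅s, t⁆ ∈ scalSub σ) (hd : (finrank K U : K) ≠ 0) {ι : Type*} [Finite ι]
    (t : ι → Q) (ht : ∀ i j, t i * (t j)⁻¹ ∈ scalSub σ → i = j) :
    Nat.card ι ≤ finrank K U ^ 2 := by
  haveI := Fintype.ofFinite ι
  have h0 : ∀ s ∉ scalSub σ, trace K U (σ s) = 0 := fun s hs => by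
    by_contra h
    refine hs (hσ.exists_eq_smul fun r => ?_)
    obtain ⟨c, hc⟩ := hc r s
    have h1 : σ r * σ s * σ r⁻¹ = c • σ s := by
      rw [← one_mul (σ s), ← smul_mul_assoc, ← hc, one_mul, ← map_mul, ← map_mul, ← map_mul]
      simp [commutatorElement_def]
    have h2 := congrArg (trace K U) h1
    rw [trace_mul_cycle, ← map_mul, inv_mul_cancel, map_one, one_mul, map_smul, smul_eq_mul,
      right_eq_mul₀ h] at h2
    rw [h2, one_smul] at h1
    conv_rhs => rw [← h1, mul_assoc, ← map_mul σ r⁻¹, inv_mul_cancel, map_one, mul_one]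
  have : LinearIndependent K fun i => σ (t i) := by
    rw [Fintype.linearIndependent_iff]
    intro g hg i
    have := congrArg (fun φ => trace K U (φ * σ (t i)⁻¹)) hg
    simp only [Finset.sum_mul, map_sum, smul_mul_assoc, ← map_mul, map_smul, zero_mul,
      map_zero] at this
    rw [Finset.sum_eq_single i (fun j _ hj => by rw [h0 _ (mt (ht j i) hj), smul_zero]) (by simp)]
      at this
    simpa [hd] using this
  rw [sq, ← finrank_linearMap K K, Nat.card_eq_fintype_card]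
  exact this.fintype_card_le_finrank

variable [CharP K p] [FiniteDimensional K W] [Finite Q]

theorem IrrRep.exists_stable_pow (hσ : IrrRep σ) (hQK : (Nat.card Q : K) ≠ 0) {ρ : G →* End K W}
    {j₀ : U →ₗ[K] W} (hj0 : j₀ ≠ 0) (hj : ∀ t v, j₀ (σ t v) = ρ t (j₀ v)) {x : G} {n : ℕ}
    (hx : x ^ p ^ n = 1) {r : ℕ} (hr : (ρ x - 1) ^ r = 0) :
    ∃ k ≤ n, x ^ p ^ k ∈ inertia σ ∧ ∃ (j : U →ₗ[K] W) (u : End K U), j ≠ 0 ∧
      (∀ t v, j (σ t v) = ρ t (j v)) ∧ (∀ v, ρ (x ^ p ^ k) (j v) = j (u v)) ∧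
      (u - 1) ^ (r / p ^ k) = 0 := by
  classical
  have hex : ∃ k, x ^ p ^ k ∈ inertia σ := ⟨n, hx ▸ one_mem _⟩
  obtain ⟨k, hk, hkI, hmin⟩ : ∃ k ≤ n, x ^ p ^ k ∈ inertia σ ∧
      ∀ i, 0 < i → i < p ^ k → x ^ i ∉ inertia σ := by
    refine ⟨Nat.find hex, Nat.find_min' hex (hx ▸ one_mem _), Nat.find_spec hex,
      fun i h0 hi h => ?_⟩
    rcases hk : Nat.find hex with _ | k
    · rw [hk, pow_zero] at hi; omega
    · exact Nat.find_min hex (hk ▸ k.lt_succ_self) (mem_of_pow_mem_of_not_dvd hx h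
        fun hd => (Nat.le_of_dvd h0 hd).not_gt (hk ▸ hi))
  obtain ⟨j, u, h0, h1, h2⟩ := exists_stable_of_mem_inertia hj0 hj hkI
  refine ⟨k, hk, hkI, j, u, h0, h1, h2, LinearMap.ext fun v => ?_⟩
  have hpk := pow_pos hp.out.pos k
  refine hσ.eq_zero_of_add_sum hQK h0 h1 ((Finset.range (p ^ k)).erase 0) (h := fun i => x ^ i)
    (w := fun _ => ((u - 1) ^ (r / p ^ k)) v) (fun i hi => hmin i
      (Nat.pos_of_ne_zero (Finset.ne_of_mem_erase hi))
      (Finset.mem_range.mp (Finset.mem_of_mem_erase hi))) ?_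
  have h5 : (ρ x - 1) ^ (p ^ k - 1 + p ^ k * (r / p ^ k)) = 0 := pow_eq_zero_of_le (by
    have := Nat.mod_lt r hpk
    have := Nat.mod_add_div r (p ^ k)
    omega) hr
  rw [pow_add, pow_mul, sub_one_pow_char_pow (K := K), sub_one_pow_pred_eq_sum (K := K),
    ← Finset.add_sum_erase _ _ (Finset.mem_range.mpr hpk), ← map_pow] at h5
  have := congrArg (fun φ : End K W => φ (j v)) h5
  have h4 := sub_one_pow_apply_of_intertwine h2
  simp only [map_pow] at h4
  simpa [h4] using this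

omit [FiniteDimensional K W] in
theorem IrrRep.critical_local (hσ : IrrRep σ) (hQK : (Nat.card Q : K) ≠ 0) {ρ : G →* End K W}
    {j : U →ₗ[K] W} (h0 : j ≠ 0) (h1 : ∀ t v, j (σ t v) = ρ t (j v)) {h : G} {m : ℕ}
    (hh : h ^ p ^ (m + 1) = 1) {u : End K U} (h2 : ∀ v, ρ h (j v) = j (u v))
    (hfree : Q ⊓ centralizer (zpowers (h ^ p ^ m) : Set G) ≤ centralizer (Q : Set G)) {s : ℕ}
    (hs : (u - 1) ^ s = 0) (hlt : s < p ^ (m + 1)) :
    u = 1 ∨ (s + 1 = p ^ (m + 1) ∧ finrank K U = s) := by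
  have hinj := hσ.injective h0 fun t => ⟨_, h1 t⟩
  refine hσ.critical hQK (α := MulAut.conjNormal h) (u := u)
    (LinearMap.ext fun v => hinj (by rw [← pow_apply_of_intertwine h2, ← map_pow, hh]; simp))
    (by rw [← map_pow, hh, map_one])
    (fun t => LinearMap.ext fun v => hinj (by
      rw [End.mul_apply, End.mul_apply, ← h2, h1, h1, ← h2, ← End.mul_apply (ρ _) (ρ _),
        ← End.mul_apply (ρ _) (ρ _), ← map_mul, ← map_mul, MulAut.conjNormal_apply,
        inv_mul_cancel_right])) (fun i t ht => ?_) hs hlt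
  by_cases hi : p ^ (m + 1) ∣ i
  · exact Or.inl hi
  have h7 : h ^ i ∈ centralizer {(t : G)} := by
    rw [mem_centralizer_singleton_iff, ← mul_inv_eq_iff_eq_mul]
    rw [← map_pow] at ht
    exact congrArg Subtype.val ht
  have h8 := mem_of_pow_mem_of_not_dvd hh h7 hi
  exact Or.inr (hσ.mem_scalSub_of_mem_centralizer (hfree ⟨t.2, by
    rw [centralizer_zpowers]
    exact mem_centralizer_singleton_iff.mpr (mem_centralizer_singleton_iff.mp h8).symm⟩))

end Cfsg.Agent.H9

namespace Cfsg.Agent.H9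

open Module LinearMap Subgroup
open scoped commutatorElement

variable {G : Type*} [Group G] [Finite G] {p : ℕ} [hp : Fact p.Prime]

theorem exists_special' {X A L : Subgroup G} (hX : IsPGroup p X)
    (hAX : A ≤ X) (hXA : X ≤ normalizer (A : Set G)) (hXL : X ≤ normalizer (L : Set G))
    (hL : (Nat.card L).Coprime p) (h : ¬ L ≤ centralizer (A : Set G)) :
    ∃ (q : ℕ) (Q : Subgroup G), q.Prime ∧ p ≠ q ∧ IsPGroup q Q ∧ Q ≤ L ∧ Q ≠ ⊥ ∧
      X ≤ normalizer (Q : Set G) ∧ ⁅Q, A⁆ = Q ∧ Q ⊓ centralizer (A : Set G) = ⁅Q, Q⁆ ∧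
      ⁅Q, Q⁆ ≤ centralizer (Q : Set G) ∧ ∀ x ∈ Q, x ^ q ∈ ⁅Q, Q⁆ := by
  have h1 : (L ⊓ centralizer (A : Set G)).relIndex L ≠ 1 := fun h1 =>
    h ((relIndex_eq_one.mp h1).trans inf_le_right)
  obtain ⟨q, hq, hd⟩ := Nat.exists_prime_and_dvd h1
  haveI := Fact.mk hq
  have hpq : p ≠ q := by
    rintro rfl
    exact hq.coprime_iff_not_dvd.mp hL.symm (hd.trans (relIndex_dvd_card _ _))
  obtain ⟨P, hP, hXP⟩ := H1.exists_invariant_isSylowIn q hXL
    (H1.coprime_card_of_isPGroup_of_coprime hX hL) (Or.inl (H1.isSolvable_of_isPGroup hX))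
  obtain ⟨Q, ⟨hQP, hXQ, hQA⟩, hmin⟩ := WellFounded.has_min (wellFounded_lt (α := Subgroup G))
    {Q | Q ≤ P ∧ X ≤ normalizer (Q : Set G) ∧ ⁅Q, A⁆ ≠ ⊥} ⟨P, le_rfl, hXP, fun h0 => by
      rw [commutator_eq_bot_iff_le_centralizer] at h0
      exact hP.not_dvd (hd.trans (relIndex_dvd_of_le_left _ (le_inf hP.le h0)))⟩
  have hQ := hP.isPGroup.to_le hQP
  obtain ⟨h2, h3, h5, h4, -⟩ := H1.hall_higman_reduction hQ hXQ hAX hXA
    (H1.coprime_card_of_isPGroup_of_coprime (hX.to_le hAX)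
      ((Nat.coprime_primes hq hp.out).mpr hpq.symm)) hQA
    fun U hU hXU => by_contra fun h0 => hmin U ⟨hU.le.trans hQP, hXU, h0⟩ hU
  exact ⟨q, Q, hq, hpq, hQ, hQP.trans hP.le, by rintro rfl; simp at hQA, hXQ, h2, h3, h4,
    fun x hx => h5 ▸ H1.pow_mem_map_frattini hQ hx⟩

theorem commutator_le_of_index_lt_sq (hG : IsPGroup p G) {M : Subgroup G} (h : M.index < p ^ 2) :
    commutator G ≤ M := by
  obtain ⟨k, hk⟩ := hG.index M
  rw [hk, Nat.pow_lt_pow_iff_right hp.out.one_lt] at h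
  interval_cases k
  · rw [index_eq_one.mp hk]; exact le_top
  · have hM := H1.isCoatom_of_index_prime (H := M) (by rw [hk, pow_one]; exact hp.out)
    haveI := H3.normal_of_isCoatom hG hM
    exact H1.commutator_le_of_isCoatom_of_normal hM

variable {K : Type*} [Field K] {W : Type*} [AddCommGroup W] [Module K W] [FiniteDimensional K W]
  [CharP K p]

theorem false_of_mem_commutator_aux [IsAlgClosed K] {q : ℕ} [hq : Fact q.Prime] (hpq : p ≠ q)
    {Q B : Subgroup G} [Q.Normal] (hQ : IsPGroup q Q) (hB : IsPGroup p B) {a : G}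
    (ha : a ∈ ⁅B, B⁆) (hap : a ^ p = 1) (hgen : ⁅Q, zpowers a⁆ = Q)
    (hfree : Q ⊓ centralizer (zpowers a : Set G) ≤ centralizer (Q : Set G))
    (hc : ⁅Q, Q⁆ ≤ centralizer (Q : Set G)) (ρ : G →* End K W) (hρ : ∃ t ∈ Q, ρ t ≠ 1)
    (h1 : (ρ a - 1) ^ (p - 1) = 0) (h2 : ∀ b ∈ B, (ρ a - 1) * (ρ b - 1) ^ (p - 1) = 0) :
    False := by
  classical
  obtain ⟨n, hn⟩ := IsPGroup.iff_card.mp hQ
  have hqK : (q : K) ≠ 0 := by
    rw [Ne, CharP.cast_eq_zero_iff K p, Nat.prime_dvd_prime_iff_eq hp.out hq.out]; exact hpq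
  have hQK : (Nat.card Q : K) ≠ 0 := by rw [hn]; simp [hqK]
  obtain ⟨S, σ, hσ, hj, hσ1⟩ := exists_irrRep_ne_one hQK (ρ.comp Q.subtype)
    (by obtain ⟨t, ht, h⟩ := hρ; exact ⟨⟨t, ht⟩, h⟩)
  haveI := hσ.1
  obtain ⟨k, hk, hI, j, u, h0, hj1, hj2, hs⟩ := hσ.exists_stable_pow hQK (ρ := ρ) (n := 1)
    subtype_ne_zero hj (by rwa [pow_one]) h1
  have hp1 := hp.out.one_lt
  obtain rfl : k = 0 := by
    by_contra h
    rw [show k = 1 by omega, pow_one, Nat.div_eq_of_lt (by omega)] at hs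
    simp at hs
  simp only [pow_zero, pow_one, Nat.div_one] at hI hj2 hs
  have hinj := hσ.injective h0 fun t => ⟨_, hj1 t⟩
  have hu : u ≠ 1 := fun hu => hσ1 fun t => eq_one_of_fixes hinj hj1 (g := a) (i := 1)
    (fun v => by rw [hj2, hu]; rfl) (by rw [pow_one, hgen]; exact t.2)
  obtain ⟨-, hd⟩ := (hσ.critical_local hQK h0 hj1 (m := 0) (by simpa using hap) hj2
    (by simpa using hfree) hs (by simp; omega)).resolve_left hu
  have hBI : B ≤ inertia σ := fun b hb => by
    by_contra hbI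
    obtain ⟨m, hm⟩ := hB ⟨b, hb⟩
    have h3 : ∀ i ∈ (Finset.range p).erase 0, b ^ i ∉ inertia σ := fun i hi h => hbI (by
      simpa using mem_of_pow_mem_of_not_dvd (k := 0) (congrArg Subtype.val hm) h fun hd =>
        (Nat.le_of_dvd (Nat.pos_of_ne_zero (Finset.ne_of_mem_erase hi)) hd).not_gt
          (by simpa using Finset.mem_of_mem_erase hi))
    refine hu (sub_eq_zero.mp (LinearMap.ext fun v => hσ.eq_zero_of_add_sum hQK h0 hj1
      (((Finset.range p).erase 0) ×ˢ (Finset.univ : Finset Bool))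
      (h := fun i => if i.2 then a * b ^ i.1 else b ^ i.1) (w := fun i => if i.2 then v else -v)
      (fun i hi => ?_) ?_))
    · have := h3 i.1 (Finset.mem_product.mp hi).1
      split_ifs
      · exact fun h => this ((mul_mem_cancel_left hI).mp h)
      · exact this
    · have h4 := sub_one_pow_pred_eq_sum (K := K) p 1 (ρ b)
      rw [pow_one] at h4
      have := congrArg (fun φ : End K W => φ (j v)) (h2 b hb)
      rw [h4, ← Finset.add_sum_erase _ _ (Finset.mem_range.mpr hp.out.pos)] at this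
      simp only [Finset.sum_product, Fintype.sum_bool]
      simpa [hj2, Finset.sum_add_distrib, sub_eq_add_neg, add_assoc, add_comm, add_left_comm]
        using this
  have h3 : ∀ t : Q, ∀ b ∈ ⁅B, B⁆, MulAut.conjNormal b t * t⁻¹ ∈ scalSub σ := fun t => by
    let M : Subgroup B :=
      { carrier := {b | MulAut.conjNormal (b : G) t * t⁻¹ ∈ scalSub σ}
        one_mem' := by simp
        mul_mem' := fun {b c} hb hc => by
          have := mul_mem (conjNormal_mem_scalSub (hBI b.2) hc) hb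
          simpa [mul_assoc] using this
        inv_mem' := fun {b} hb => by
          have := inv_mem (conjNormal_mem_scalSub (inv_mem (hBI b.2)) hb)
          simpa [mul_assoc] using this }
    have := hσ.card_le_sq (fun s t => hσ.mem_scalSub_of_mem_centralizer
      (hc (commutator_mem_commutator s.2 t.2))) (by
        rw [hd, Nat.cast_sub hp1.le]; simp) (ι := B ⧸ M)
      (fun i => MulAut.conjNormal (i.out : G) t) fun i j h => by
        rw [← i.out_eq', ← j.out_eq', eq_comm, QuotientGroup.eq]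
        have := conjNormal_mem_scalSub (inv_mem (hBI j.out.2)) h
        change MulAut.conjNormal (((j.out⁻¹ * i.out : B)) : G) t * t⁻¹ ∈ scalSub σ
        simpa using this
    have h5 := commutator_le_of_index_lt_sq hB (M := M)
      (this.trans_lt (by rw [hd]; exact Nat.pow_lt_pow_left (by omega) two_ne_zero))
    intro b hb
    rw [← map_subtype_commutator] at hb
    obtain ⟨b, hb, rfl⟩ := hb
    exact h5 hb
  have h4 : ⁅Q, zpowers a⁆ ≤ (scalSub σ).map Q.subtype := commutator_le.mpr fun t ht g hg =>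
    ⟨_, inv_mem (h3 ⟨t, ht⟩ g (zpowers_le.mpr ha hg)), by simp [commutatorElement_def, mul_assoc]⟩
  rw [hσ.finrank_eq_one fun t => by
    obtain ⟨s, hs, h⟩ := h4 (hgen.ge t.2)
    obtain rfl : s = t := Subtype.ext h
    exact hs] at hd
  rw [← hd, pow_one] at hs
  exact hu (sub_eq_zero.mp hs)

/-- An element `a` of `B' ∩ Z(B)` with `(a - 1)^(p-1) = 0` and `(a - 1)(b - 1)^(p-1) = 0` for all
`b ∈ B` centralizes every `B`-invariant `p'`-subgroup. -/
theorem mem_centralizer_of_mem_commutator {L B : Subgroup G} (hL : (Nat.card L).Coprime p)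
    (hB : IsPGroup p B) (hBL : B ≤ normalizer (L : Set G)) {a : G} (ha : a ∈ ⁅B, B⁆)
    (haB : a ∈ centralizer (B : Set G)) (hap : a ^ p = 1) (ρ : G →* End K W)
    (hρ : ∀ t ∈ L, ρ t = 1 → t = 1) (h1 : (ρ a - 1) ^ (p - 1) = 0)
    (h2 : ∀ b ∈ B, (ρ a - 1) * (ρ b - 1) ^ (p - 1) = 0) : a ∈ centralizer (L : Set G) := by
  by_contra hy
  have hAX : zpowers a ≤ B := zpowers_le.mpr (commutator_le_self B ha)
  obtain ⟨q, Q, hq, hpq, hQ, hQL, hQ1, hXQ, h3, h4, h5, -⟩ := exists_special' hB hAX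
    (le_normalizer_of_le_centralizer (le_centralizer_iff.mp (zpowers_le.mpr haB))) hBL hL
    (fun h => hy (le_centralizer_iff.mp h (mem_zpowers _)))
  haveI := Fact.mk hq
  let K' := AlgebraicClosure K
  let M := normalizer (Q : Set G)
  let a' : M := ⟨a, hXQ (hAX (mem_zpowers a))⟩
  have hA : (zpowers a').map M.subtype = zpowers a := by
    rw [MonoidHom.map_zpowers]; rfl
  have hQM : (Q.subgroupOf M).map M.subtype = Q := map_subgroupOf_eq_of_le le_normalizer
  have hBM : (B.subgroupOf M).map M.subtype = B := map_subgroupOf_eq_of_le hXQ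
  let b := End.baseChangeHom K K' W
  have hb : Function.Injective b := LinearMap.baseChangeHom_injective K W K'
  refine false_of_mem_commutator_aux (K := K') (Q := Q.subgroupOf M) (B := B.subgroupOf M)
    (a := a') hpq hQ.comap_subtype hB.comap_subtype ?_ (Subtype.ext hap)
    (map_injective M.subtype_injective (by rw [map_commutator, hA, hQM, h3]))
    (fun t ht s hs => Subtype.ext (h5 (h4.le ⟨ht.1, fun g hg => by
      rw [← hA] at hg
      obtain ⟨g, hg, rfl⟩ := hg
      exact congrArg Subtype.val (ht.2 g hg)⟩) s hs))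
    (fun t ht s hs => Subtype.ext (h5 (by
      rw [← hQM, ← map_commutator]; exact mem_map_of_mem _ ht) s hs))
    (b.toRingHom.toMonoidHom.comp (ρ.comp M.subtype)) (by
      obtain ⟨⟨t, ht⟩, ht1⟩ := ne_bot_iff_exists_ne_one.mp hQ1
      exact ⟨⟨t, le_normalizer ht⟩, ht, fun h => ht1 (Subtype.ext (hρ t (hQL ht)
        (hb (h.trans (map_one b).symm))))⟩) ?_ fun c hc => ?_
  · rw [← hBM, ← map_commutator] at ha
    exact (mem_map_iff_mem M.subtype_injective).mp ha
  · have := congrArg b h1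
    rwa [map_pow, map_sub, map_one, map_zero] at this
  · have := congrArg b (h2 c hc)
    rwa [map_mul, map_pow, map_sub, map_sub, map_one, map_zero] at this

end Cfsg.Agent.H9
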