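import Cfsg.Agent.WA.Main
import Cfsg.Agent.H6.Dade2
import Cfsg.Agent.H6.Klein
import Cfsg.Agent.H6.Princ3
import Cfsg.Agent.H8.Deg1
import Cfsg.Agent.H5.Cover
import Cfsg.Agent.H7.PSL2Deg
import Cfsg.Agent.H8.Height
import Cfsg.Agent.H8.Princ
import Cfsg.Agent.H9.PCons

/-! Abelian Sylow `2`-subgroups: the characters of the principal `2`-block have odd degree, when
some element of order at most two has a `2`-nilpotent centralizer. -/

set_option autoImplicit false
set_option linter.unusedSectionVars false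

namespace Cfsg.Agent.H9.AB

open Subgroup Cfsg.Agent.H4 Cfsg.Agent.WA Cfsg.Agent.H10 Cfsg.Agent.H11
open scoped MatrixGroups ComplexConjugate

universe u

/-- some element of order at most two has a `2`-nilpotent centralizer -/
def RG (G : Type*) [Group G] : Prop :=
  ∃ x : G, x * x = 1 ∧ HasNormalPComplement 2 (centralizer ({x} : Set G))

/-- the characters of the principal block have odd degree -/
def OD (M : Ideal AlgInt) (G : Type*) [Group G] : Prop :=
  ∀ χ ∈ principalBlock M G, ¬ 2 ∣ charDegree (χ : G → ℂ)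

variable {G : Type*} [Group G] [Finite G] {M : Ideal AlgInt}

theorem npc_sub {K : Subgroup G} {x : G} {y : K}
    (h : HasNormalPComplement 2 (centralizer ({x} : Set G)))
    (hc : ∀ k : K, y * k = k * y → x * k = k * x) :
    HasNormalPComplement 2 (centralizer ({y} : Set K)) :=
  H3.hasNormalPComplement_of_injective
    ((K.subtype.comp (centralizer ({y} : Set K)).subtype).codRestrict (centralizer ({x} : Set G))
      fun k => mem_centralizer_singleton_iff.2 (hc k (mem_centralizer_singleton_iff.1 k.2).symm).symm)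
    (fun a b e => Subtype.ext (Subtype.ext (congrArg (fun z : centralizer ({x} : Set G) => (z : G)) e))) h

theorem RG.odd_index (h : RG G) {K : Subgroup G} [K.Normal] (hK : ¬ 2 ∣ K.index) : RG K := by
  obtain ⟨x, h1, h2⟩ := h
  have hx : x ∈ K := by
    rw [← QuotientGroup.eq_one_iff, ← orderOf_eq_one_iff]
    have e1 : orderOf (x : G ⧸ K) ∣ 2 := orderOf_dvd_of_pow_eq_one (by
      rw [pow_two, ← QuotientGroup.mk_mul, h1, QuotientGroup.mk_one])
    rcases (Nat.dvd_prime Nat.prime_two).1 e1 with e | e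
    · exact e
    · exact absurd (e ▸ orderOf_dvd_natCard (x : G ⧸ K)) hK
  exact ⟨⟨x, hx⟩, Subtype.ext h1, npc_sub h2 fun k e => congrArg Subtype.val e⟩

theorem cent_mk {N : Subgroup G} [N.Normal] (hN : ¬ 2 ∣ Nat.card N) {x : G}
    (hx : IsPGroup 2 (zpowers x)) :
    centralizer ({(x : G ⧸ N)} : Set (G ⧸ N)) =
      (centralizer ({x} : Set G)).map (QuotientGroup.mk' N) := by
  rw [← centralizer_zpowers, ← centralizer_zpowers, ← H9.centralizer_map_mk'_of_coprime hx
    (Nat.prime_two.coprime_iff_not_dvd.2 hN).symm, MonoidHom.map_zpowers]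
  rfl

theorem RG.quot (h : RG G) {N : Subgroup G} [N.Normal] (hN : ¬ 2 ∣ Nat.card N) : RG (G ⧸ N) := by
  obtain ⟨x, h1, h2⟩ := h
  refine ⟨x, by rw [← QuotientGroup.mk_mul, h1, QuotientGroup.mk_one], ?_⟩
  rw [cent_mk hN (zp_two h1)]
  exact H3.hasNormalPComplement_map _ h2

theorem RG.factor (h : RG G) {U V : Subgroup G} (hc : ∀ u ∈ U, ∀ v ∈ V, u * v = v * u)
    (hg : U ⊔ V = ⊤) (hd : U ⊓ V = ⊥) : RG U := by
  obtain ⟨x, h1, h2⟩ := h
  obtain ⟨u, hu, v, hv, rfl⟩ := H6.exists_mul_of_commute hc hg x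
  have e : u * u = (v * v)⁻¹ := by
    rw [eq_inv_iff_mul_eq_one, ← h1, mul_assoc, mul_assoc u v, ← mul_assoc v u, ← hc u hu v hv,
      mul_assoc u v]
  have h3 : u * u ∈ U ⊓ V := ⟨U.mul_mem hu hu, e ▸ V.inv_mem (V.mul_mem hv hv)⟩
  rw [hd, mem_bot] at h3
  refine ⟨⟨u, hu⟩, Subtype.ext h3, npc_sub h2 fun k e => ?_⟩
  have e' : u * k = k * u := congrArg Subtype.val e
  rw [mul_assoc, ← hc k k.2 v hv, ← mul_assoc, e', mul_assoc]

theorem quot_mem (hM : IsPModular 2 M) {N : Subgroup G} [N.Normal] (hN : ¬ 2 ∣ Nat.card N)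
    {χ : IrrCharacter G} (hχ : χ ∈ principalBlock M G) :
    ∃ ψ ∈ principalBlock M (G ⧸ N), ∀ g : G, (ψ : G ⧸ N → ℂ) g = (χ : G → ℂ) g := by
  haveI := hM.2.1
  have hπ := QuotientGroup.mk'_surjective N
  have h1 := H6.le_charKer_of_mem_principal hM hN hχ
  have h2 : (fun g => deflate N χ.1 (QuotientGroup.mk' N g)) = χ.1 := funext (deflate_mk h1)
  refine ⟨⟨_, χ.2.deflate h1⟩, H6.sameBlock_of_comp_pPrime hM _ hπ
    (by rwa [QuotientGroup.ker_mk']) isIrrCharacter_one (χ.2.deflate h1) ?_, deflate_mk h1⟩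
  rw [h2]
  exact hχ

theorem OD.of_quot (hM : IsPModular 2 M) {N : Subgroup G} [N.Normal] (hN : ¬ 2 ∣ Nat.card N)
    (h : OD M (G ⧸ N)) : OD M G := fun χ hχ => by
  obtain ⟨ψ, h1, h2⟩ := quot_mem hM hN hχ
  have := h ψ h1
  rwa [charDegree_eq_of (d := charDegree (χ : G → ℂ))
    ((h2 1).trans (H8.irr_coe_charDegree χ).symm)] at this

theorem OD.of_index (hM : IsPModular 2 M) {K : Subgroup G} [K.Normal] (hK : ¬ 2 ∣ K.index)
    (h : OD M K) : OD M G := fun χ hχ => by
  haveI := hM.2.1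
  haveI := Fintype.ofFinite K
  obtain ⟨θ, hθ, h1⟩ := H5.exists_irr_under K χ.2
  obtain ⟨e, h2, h3⟩ := (H5.NEmb.ofNormal K).degree_dvd_index hθ χ.2 h1
  rw [H5.NEmb.ofNormal_range] at h2
  have h4 := h ⟨θ, hθ⟩ (H6.mem_principal_of_under hχ h1)
  rw [charDegree_eq_of (d := e * charDegree θ) (by
    rw [h3, ← hθ.isCharacter.charDegree_cast]; push_cast; rfl)]
  exact fun h5 => (Nat.prime_two.dvd_mul.1 h5).elim (fun h6 => hK (h6.trans h2)) h4

theorem OD.of_prod (hM : IsPModular 2 M) {U V : Subgroup G} [U.Normal] [V.Normal]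
    (hc : ∀ u ∈ U, ∀ v ∈ V, u * v = v * u) (hg : U ⊔ V = ⊤) (hU : OD M U) (hV : OD M V) :
    OD M G := fun χ hχ => by
  haveI := hM.2.1
  haveI := Fintype.ofFinite U
  haveI := Fintype.ofFinite V
  let f : U × V →* G := U.subtype.noncommCoprod V.subtype fun u v => hc u u.2 v v.2
  have hf : Function.Surjective f := fun g => by
    obtain ⟨u, hu, v, hv, rfl⟩ := H6.exists_mul_of_commute hc hg g
    exact ⟨(⟨u, hu⟩, ⟨v, hv⟩), rfl⟩
  obtain ⟨φ, ψ, hφ, hψ, e⟩ := (χ.2.comp_of_surjective f hf).exists_prod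
  have e1 : (fun u : U => (χ : G → ℂ) u) = ψ 1 • φ := funext fun u => by
    have := congrFun e (u, 1)
    rw [show f (u, 1) = u from mul_one _] at this
    rw [this, Pi.smul_apply, smul_eq_mul, mul_comm]
  have e2 : (fun u : V => (χ : G → ℂ) u) = φ 1 • ψ := funext fun u => by
    have := congrFun e (1, u)
    rw [show f (1, u) = u from one_mul _] at this
    rw [this, Pi.smul_apply, smul_eq_mul]
  have h1 := hU ⟨φ, hφ⟩ (H6.mem_principal_of_under hχ (by
    rw [e1, classInner_smul_left, hφ.classInner_self, mul_one]; exact hψ.apply_one_ne_zero))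
  have h2 := hV ⟨ψ, hψ⟩ (H6.mem_principal_of_under hχ (by
    rw [e2, classInner_smul_left, hψ.classInner_self, mul_one]; exact hφ.apply_one_ne_zero))
  rw [charDegree_eq_of (d := charDegree φ * charDegree ψ) (by
    have := congrFun e 1
    simp only [map_one, Prod.fst_one, Prod.snd_one] at this
    rw [this, ← hφ.isCharacter.charDegree_cast, ← hψ.isCharacter.charDegree_cast]; push_cast; rfl)]
  exact fun h5 => (Nat.prime_two.dvd_mul.1 h5).elim h1 h2

theorem od_of_four (hM : IsPModular 2 M) (h : (Nat.card G).factorization 2 ≤ 2) : OD M G :=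
  fun χ hχ h2 => by
  haveI := hM.2.1
  haveI := Fintype.ofFinite G
  have h1 := H8.height_principal (G := G) hM (χ : G → ℂ)
  have h3 := (Nat.prime_two.dvd_iff_one_le_factorization (H8.irr_charDegree_pos χ).ne').1 h2
  have h4 := H8.height_add_two_le hM H6.isPBlock_principal hχ (by omega)
  rw [H8.defect_principal hM] at h4
  omega

theorem not_npc [IsSimpleGroup G] (hG : ¬ IsMulCommutative G) : ¬ HasNormalPComplement 2 G := by
  intro h
  obtain ⟨N, hN, h1, h2⟩ := H3.hasNormalPComplement_iff_exists_normal.1 h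
  haveI : IsSimpleGroup (⊤ : Subgroup G) := topEquiv.isSimpleGroup
  have h3 : ¬ IsMulCommutative (⊤ : Subgroup G) := fun h => hG ⟨⟨fun a b =>
    congrArg Subtype.val (h.is_comm.comm (⟨a, trivial⟩ : (⊤ : Subgroup G)) ⟨b, trivial⟩)⟩⟩
  rcases hN.eq_bot_or_eq_top with rfl | rfl
  · have h4 : IsPGroup 2 G := h2.of_equiv QuotientGroup.quotientBot
    haveI := h4.isNilpotent
    exact hG ⟨⟨IsSimpleGroup.comm_iff_isSolvable.2 inferInstance⟩⟩
  · exact h1 (even_iff_two_dvd.1 (even_card h3))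

theorem degs (hM : IsPModular 2 M) [IsSimpleGroup G] (hG : ¬ IsMulCommutative G) {F : Type}
    [Field F] [Fintype F] {n : ℕ} (hn : 2 ≤ n) (hF : Fintype.card F = 2 ^ n)
    (e : G ≃* PSL(2, F)) {χ : IrrCharacter G} (hχ : χ ∈ principalBlock M G) :
    charDegree (χ : G → ℂ) = 1 ∨ charDegree (χ : G → ℂ) = 2 ^ n + 1 ∨
      charDegree (χ : G → ℂ) + 1 = 2 ^ n := by
  haveI := hM.2.1
  have h := H7.Pd.cases (F := F) (.inl ⟨e⟩) (H8.mem_cd_of χ.2 (H8.irr_coe_charDegree χ).symm)
  rw [Nat.card_eq_fintype_card, hF] at h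
  have h2 : 2 ∣ 2 ^ n := dvd_pow_self 2 (by omega)
  rcases h with h | h | h | h | ⟨-, h | h⟩
  · exact .inl h
  · have := H6.eq_one_of_principal_of_degree hM (by
      by_contra hc
      push Not at hc
      exact hG ⟨⟨hc⟩⟩) hχ (k := n) (by rw [← H8.irr_coe_charDegree, h]; push_cast; rfl)
    exact .inl (charDegree_eq_of (by rw [this]; simp))
  · exact .inr (.inl h)
  · exact .inr (.inr h)
  · omega
  · omega

theorem not_jrt {L : Subgroup G} [IsSimpleGroup L] (hL : ¬ IsMulCommutative L) (h2 : Ab2 L)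
    (h : JRT L) {x : G} (hx : x ∈ L) (x2 : orderOf x = 2) :
    ¬ HasNormalPComplement 2 (centralizer ({x} : Set G)) := by
  intro hc
  obtain ⟨t, E, hj, -⟩ := JRT.jat hL h2 h
  obtain ⟨V, hV, hxV⟩ := exists_syl_invol hx x2
  obtain ⟨g, hg, ht⟩ := hV.exists_conj_invol_mem hj.ord hj.mem
  obtain ⟨C, hC, -, -, h3, -⟩ := (JRT.niceIn hL h2 h).cyc V hV
  have hj1 := hj.conj hg
  obtain ⟨c, hc1, hc2⟩ := h3 _ ht (fun e => by have := hj1.ord; rw [e] at this; simp at this)
    x hxV (fun e => by rw [e] at x2; simp at x2)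
  have hj2 := hj1.conj (hC hc1)
  rw [hc2] at hj2
  haveI := hj2.simple
  exact not_npc hj2.nc (H3.hasNormalPComplement_of_le (hj2.le.trans inf_le_right) hc)

theorem od_simple (hM : IsPModular 2 M) {G : Type u} [Group G] [Finite G] [IsSimpleGroup G]
    (hG : ¬ IsMulCommutative G) (h2 : Ab2 (⊤ : Subgroup G)) (h : RG G) : OD M G := by
  haveI : IsSimpleGroup (⊤ : Subgroup G) := topEquiv.isSimpleGroup
  have h3 : ¬ IsMulCommutative (⊤ : Subgroup G) := fun h => hG ⟨⟨fun a b =>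
    congrArg Subtype.val (h.is_comm.comm (⟨a, trivial⟩ : (⊤ : Subgroup G)) ⟨b, trivial⟩)⟩⟩
  rcases walter h3 h2.top with ⟨F, _, _, ⟨n, hn, hF⟩, ⟨e⟩⟩ | ⟨F, _, _, hF, -, ⟨e⟩⟩ | h4
  · intro χ hχ
    have h5 : 2 ∣ 2 ^ n := dvd_pow_self 2 (by omega)
    rcases degs hM hG hn hF (topEquiv.symm.trans e) hχ with h | h | h <;> omega
  · obtain ⟨V, hV⟩ := exists_isSylIn 2 (⊤ : Subgroup G)
    have h5 := ((QT.of_psl h3 h2 (Nat.odd_iff.2 (by omega)) e).kl V hV).card_four
    rw [hV.card_eq_pow, card_top] at h5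
    exact od_of_four hM (Nat.pow_right_injective le_rfl (h5.trans (by norm_num : 4 = 2 ^ 2))).le
  · obtain ⟨x, h5, h6⟩ := h
    by_cases hx : x = 1
    · subst hx
      have e : centralizer ({1} : Set G) = ⊤ := by ext; simp [mem_centralizer_singleton_iff]
      rw [e, H3.hasNormalPComplement_top_iff] at h6
      exact absurd h6 (not_npc hG)
    · exact absurd h6 (not_jrt h3 h2 h4 (mem_top x) (orderOf_eq_prime (by rwa [pow_two]) hx))

theorem cf_top {G : Type u} [Group G] [Finite G] (hO : pPrimeCore 2 G = ⊥)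
    (h2 : Ab2 (⊤ : Subgroup G)) : CF (⊤ : Subgroup G) := by
  have h1 : OqOf 2 (⊤ : Subgroup G) = ⊥ := by rwa [OqOf_top]
  refine ⟨h1, h2, fun L hL => ?_⟩
  haveI := simple_of_comp h1 h2 hL
  have h3 := not_comm_of_comp h1 h2 hL
  exact WT.niceIn h3 (h2.mono hL.le) (walter h3 (h2.mono hL.le).top)

theorem ab2_quot (h2 : Ab2 (⊤ : Subgroup G)) (N : Subgroup G) [N.Normal] :
    Ab2 (⊤ : Subgroup (G ⧸ N)) := by
  have := h2.map (QuotientGroup.mk' N)
  rwa [map_top_of_surjective _ (QuotientGroup.mk'_surjective N)] at this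

theorem card_quot_lt {N : Subgroup G} [N.Normal] (h : N ≠ ⊥) : Nat.card (G ⧸ N) < Nat.card G := by
  rw [card_eq_card_quotient_mul_card_subgroup N]
  exact lt_mul_of_one_lt_right Nat.card_pos (N.one_lt_card_iff_ne_bot.2 h)

theorem card_sub_lt {K : Subgroup G} (h : K ≠ ⊤) : Nat.card K < Nat.card G :=
  card_top (G := G) ▸ H11.card_lt_of_lt h.lt_top

theorem not_dvd_core : ¬ 2 ∣ Nat.card (pPrimeCore 2 G) :=
  Nat.prime_two.coprime_iff_not_dvd.1 (pPrimeCore_coprime 2 G).symm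

theorem od_aux (hM : IsPModular 2 M) (n : ℕ) : ∀ (G : Type u) [Group G] [Finite G],
    Nat.card G < n → Ab2 (⊤ : Subgroup G) → RG G → OD M G := by
  induction n with
  | zero => exact fun _ _ _ h => absurd h (Nat.not_lt_zero _)
  | succ n ih =>
  intro G _ _ hn h2 h
  have hn' := Nat.lt_succ_iff.1 hn
  by_cases hO : pPrimeCore 2 G = ⊥
  swap
  · exact OD.of_quot hM not_dvd_core (ih _ ((card_quot_lt hO).trans_le hn') (ab2_quot h2 _)
      (h.quot not_dvd_core))
  have hc := cf_top hO h2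
  obtain ⟨P⟩ : Nonempty (Sylow 2 G) := inferInstance
  have h3 := hc.two_le_Fstar P.2 le_top
  rw [LayOf_top, OpOf_top] at h3
  by_cases hK : layer G ⊔ pCore 2 G = ⊤
  swap
  · have h4 : ¬ 2 ∣ (layer G ⊔ pCore 2 G).index := fun e =>
      P.not_dvd_index (e.trans (index_dvd_of_le h3))
    exact OD.of_index hM h4 (ih _ ((card_sub_lt hK).trans_le hn') (h2.mono le_top).top
      (h.odd_index h4))
  by_cases hL : layer G = ⊥
  · rw [hL, bot_sup_eq] at hK
    intro χ _
    rw [charDegree_eq_of (d := 1) (by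
      rw [H5.degree_eq_one_of_comm (fun a b => h2 ⊤ le_rfl (hK ▸ pCore_isPGroup' 2 G) a trivial b
        trivial) χ.2]; simp)]
    norm_num
  obtain ⟨L, hL⟩ : ∃ L, CompOf L (⊤ : Subgroup G) := by
    rw [← LayOf_top, LayOf_eq_bot_iff] at hL
    push Not at hL
    exact hL
  have h5 : L ⊔ centralizer (L : Set G) = ⊤ := by
    rw [eq_top_iff, ← hK, ← LayOf_top, ← OpOf_top]
    refine sup_le (hL.LayOf_eq_sup_centralizer.le.trans (sup_le_sup_left inf_le_left _))
      (le_sup_of_le_right (le_centralizer_iff.1 (commutator_eq_bot_iff_le_centralizer.1 ?_)))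
    exact eq_bot_iff.2 ((commutator_mono hL.le_LayOf le_rfl).trans (commutator_LayOf_OpOf 2).le)
  haveI := H7.normal_of_sup_centralizer h5
  have h6 := cen_bot hc.core h2 hL
  have h7 : ∀ u ∈ L, ∀ v ∈ centralizer (L : Set G), u * v = v * u := fun u hu v hv => hv u hu
  by_cases h8 : L = ⊤
  · subst h8
    haveI := simple_of_comp hc.core h2 hL
    haveI : IsSimpleGroup G := topEquiv.symm.isSimpleGroup
    exact od_simple hM (fun e => not_comm_of_comp hc.core h2 hL inferInstance) h2 h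
  have h9 : centralizer (L : Set G) ≠ ⊤ := fun e => QS.not_le_centralizer hL.qs (e ▸ le_top)
  exact OD.of_prod hM h7 h5
    (ih _ ((card_sub_lt h8).trans_le hn') (h2.mono le_top).top (h.factor h7 h5 h6))
    (ih _ ((card_sub_lt h9).trans_le hn') (h2.mono le_top).top
      (h.factor (fun u hu v hv => (h7 v hv u hu).symm) (sup_comm L _ ▸ h5) (inf_comm L _ ▸ h6)))

theorem od (hM : IsPModular 2 M) {G : Type u} [Group G] [Finite G] (h2 : Ab2 (⊤ : Subgroup G))
    (h : RG G) : OD M G :=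
  od_aux hM _ G (Nat.lt_succ_self _) h2 h

/-- the column of an element of order at most two with `2`-nilpotent centralizer -/
theorem column [Fintype G] (hM : IsPModular 2 M) {x : G} (h1 : x * x = 1)
    (h : HasNormalPComplement 2 (centralizer ({x} : Set G))) :
    ∃ d : IrrCharacter G → ℤ, (∀ χ : IrrCharacter G, (χ : G → ℂ) x = d χ) ∧
      (∀ χ : IrrCharacter G, (2 : ℤ) ∣ charDegree (χ : G → ℂ) - d χ) ∧
      ∑ χ ∈ H8.bfin (principalBlock M G), d χ ^ 2 =
        2 ^ (Nat.card (centralizer ({x} : Set G))).factorization 2 := by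
  classical
  haveI := hM.2.1
  have h2 : ∀ χ : IrrCharacter G, ∃ d : ℤ, (χ : G → ℂ) x = d ∧
      (2 : ℤ) ∣ charDegree (χ : G → ℂ) - d := fun χ => by
    obtain ⟨k, -, hk⟩ := χ.2.isCharacter.exists_int_of_sq_eq_one (g := x) (by rwa [pow_two])
      (H8.irr_coe_charDegree χ).symm
    exact ⟨charDegree (χ : G → ℂ) - 2 * k, by rw [hk]; push_cast; ring, k, by ring⟩
  choose d h3 h4 using h2
  refine ⟨d, h3, h4, ?_⟩
  have h5 := H6.principal_column_of_complement hM (x := x) (by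
    obtain ⟨k, -, hk⟩ := (Nat.dvd_prime_pow Nat.prime_two (m := 1)).1
      (orderOf_dvd_of_pow_eq_one (x := x) (by simpa [pow_two] using h1))
    exact ⟨k, hk⟩) h
  rw [← Finset.sum_filter, show Finset.univ.filter (· ∈ principalBlock M G) =
    H8.bfin (principalBlock M G) by ext; simp [H8.mem_bfin]] at h5
  simp only [h3, map_intCast, ← pow_two] at h5
  exact_mod_cast h5

theorem card_mod {ι : Type*} (s : Finset ι) (d : ι → ℤ) (h : ∀ i ∈ s, Odd (d i)) :
    (s.card : ℤ) ≤ ∑ i ∈ s, d i ^ 2 ∧ (8 : ℤ) ∣ ∑ i ∈ s, d i ^ 2 - s.card := by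
  rw [Finset.card_eq_sum_ones]
  push_cast
  refine ⟨Finset.sum_le_sum fun i hi => ?_, ?_⟩
  · have : d i ≠ 0 := fun e => by have := h i hi; rw [e] at this; simp at this
    exact one_le_sq_iff_one_le_abs _ |>.2 (Int.one_le_abs this)
  · rw [← Finset.sum_sub_distrib]
    refine Finset.dvd_sum fun i hi => ?_
    obtain ⟨k, hk⟩ := h i hi
    obtain ⟨m, hm⟩ := Int.even_mul_succ_self k
    exact ⟨m, by rw [hk]; linear_combination 4 * hm⟩

theorem ab2_of_sylow (P : Sylow 2 G) (hP : IsMulCommutative (P : Subgroup G)) :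
    Ab2 (⊤ : Subgroup G) := fun T _ hT a ha b hb => by
  obtain ⟨Q, hQ⟩ := hT.exists_le_sylow
  obtain ⟨g, rfl⟩ := MulAction.exists_smul_eq G P Q
  have h : IsMulCommutative ((g • P : Sylow 2 G) : Subgroup G) := by
    rw [Sylow.coe_subgroup_smul]
    exact map_isMulCommutative _ _
  exact congrArg Subtype.val (h.is_comm.comm ⟨a, hQ ha⟩ ⟨b, hQ hb⟩)

theorem pow_cent (h2 : Ab2 (⊤ : Subgroup G)) (P : Sylow 2 G) {x : G} (hx : IsPGroup 2 (zpowers x)) :
    2 ^ (Nat.card (centralizer ({x} : Set G))).factorization 2 = Nat.card P := by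
  obtain ⟨Q, hQ⟩ := hx.exists_le_sylow
  rw [H6.factorization_card_of_sylow_le Q fun s hs => mem_centralizer_singleton_iff.2
    (h2 Q le_top Q.2 s hs x (hQ (mem_zpowers x))), Q.card_eq_multiplicity, P.card_eq_multiplicity]

theorem card_cong {G : Type u} [Group G] [Finite G] (hM : IsPModular 2 M)
    (h2 : Ab2 (⊤ : Subgroup G)) (P : Sylow 2 G) (h : RG G) :
    0 < Nat.card (principalBlock M G) ∧ Nat.card (principalBlock M G) ≤ Nat.card P ∧
      (8 : ℤ) ∣ (Nat.card P : ℤ) - Nat.card (principalBlock M G) := by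
  haveI := hM.2.1
  haveI := Fintype.ofFinite G
  have h3 := od hM h2 h
  obtain ⟨x, h4, h5⟩ := h
  obtain ⟨d, -, h6, h7⟩ := column hM h4 h5
  have h8 := pow_cent h2 P (zp_two h4)
  obtain ⟨h9, h10⟩ := card_mod (H8.bfin (principalBlock M G)) d fun χ hχ => by
    have := h3 χ (H8.mem_bfin.1 hχ)
    have := h6 χ
    rw [Int.odd_iff]
    omega
  have h11 : (2 : ℤ) ^ (Nat.card (centralizer ({x} : Set G))).factorization 2 = Nat.card P := by
    exact_mod_cast h8
  rw [h7, h11, H8.card_bfin] at h9 h10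
  haveI : Nonempty (principalBlock M G) := ⟨⟨_, H6.irrOne_mem_principal⟩⟩
  exact ⟨Nat.card_pos, by exact_mod_cast h9, h10⟩

end Cfsg.Agent.H9.AB
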