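import Cfsg.Agent.H9.AB1
import Cfsg.Agent.H8.Subsec3
import Cfsg.Agent.H7.Rank
import Cfsg.Agent.S4646
import Cfsg.Agent.S4691

/-! Abelian Sylow `2`-subgroups: counting the characters of the principal block. -/

set_option autoImplicit false
set_option linter.unusedSectionVars false

namespace Cfsg.Agent.H9.AB

open Subgroup Cfsg.Agent.H4 Cfsg.Agent.WA Cfsg.Agent.H10 Cfsg.Agent.H11
open scoped ComplexConjugate

variable {G : Type*} [Group G] [Finite G] {M : Ideal AlgInt}

theorem two_dvd_iff {Q : Type*} [Group Q] (f : G →* Q) (hk : ¬ 2 ∣ Nat.card f.ker) (g : G) :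
    2 ∣ orderOf (f g) ↔ 2 ∣ orderOf g := by
  refine ⟨fun h => h.trans (orderOf_map_dvd f g), fun h => ?_⟩
  have h1 : g ^ orderOf (f g) ∈ f.ker := by rw [MonoidHom.mem_ker, map_pow, pow_orderOf_eq_one]
  have h2 : orderOf g ∣ orderOf (f g) * Nat.card f.ker := orderOf_dvd_of_pow_eq_one (by
    rw [pow_mul]; exact orderOf_dvd_iff_pow_eq_one.1 (f.ker.orderOf_dvd_natCard h1))
  exact (Nat.prime_two.dvd_mul.1 (h.trans h2)).resolve_right hk

theorem kl_comp [M.IsMaximal] {Q : Type*} [Group Q] [Finite Q] (f : G →* Q) (hf : Function.Surjective f)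
    (hk : ¬ 2 ∣ Nat.card f.ker) (h : ∀ χ ∈ principalBlock M G, ∃ ψ ∈ principalBlock M Q,
      ∀ g, (ψ : Q → ℂ) (f g) = (χ : G → ℂ) g) :
    blockRank 2 (principalBlock M G) = blockRank 2 (principalBlock M Q) ∧
      Nat.card (principalBlock M G) = Nat.card (principalBlock M Q) := by
  have e : principalBlock M G = H7.irrComp f hf '' principalBlock M Q := by
    ext χ
    constructor
    · intro hχ
      obtain ⟨ψ, h1, h2⟩ := h χ hχ
      exact ⟨ψ, h1, Subtype.ext (funext h2)⟩
    · rintro ⟨ψ, h1, rfl⟩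
      exact H6.sameBlock_comp f hf h1
  constructor
  · have e2 : ∀ ψ : IrrCharacter Q, pRegularPart 2 (H7.irrComp f hf ψ : G → ℂ) =
        LinearMap.funLeft ℂ ℂ f (pRegularPart 2 (ψ : Q → ℂ)) := fun ψ => funext fun g => by
      rw [LinearMap.funLeft_apply]
      by_cases hg : 2 ∣ orderOf g
      · rw [H6.pRegularPart_of_dvd _ hg, H6.pRegularPart_of_dvd _ ((two_dvd_iff f hk g).2 hg)]
      · rw [H6.pRegularPart_of_not_dvd _ hg,
          H6.pRegularPart_of_not_dvd _ (mt (two_dvd_iff f hk g).1 hg)]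
        rfl
    rw [blockRank, blockRank, e, Set.image_image]
    rw [Set.image_congr fun ψ _ => e2 ψ, ← Set.image_image (LinearMap.funLeft ℂ ℂ f),
      ← Submodule.map_span]
    exact (Submodule.equivMapOfInjective _
      (LinearMap.funLeft_injective_of_surjective ℂ ℂ f hf) _).finrank_eq.symm
  · rw [e]
    refine Nat.card_image_of_injective (fun ψ ψ' h => Subtype.ext (funext fun q => ?_)) _
    obtain ⟨g, rfl⟩ := hf q
    exact congrFun (congrArg Subtype.val h) g

theorem kl_quot (hM : IsPModular 2 M) {N : Subgroup G} [N.Normal] (hN : ¬ 2 ∣ Nat.card N) :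
    blockRank 2 (principalBlock M G) = blockRank 2 (principalBlock M (G ⧸ N)) ∧
      Nat.card (principalBlock M G) = Nat.card (principalBlock M (G ⧸ N)) :=
  haveI := hM.2.1
  kl_comp (QuotientGroup.mk' N) (QuotientGroup.mk'_surjective N) (by rwa [QuotientGroup.ker_mk'])
    fun _ hχ => quot_mem hM hN hχ

theorem kl_equiv [M.IsMaximal] {Q : Type*} [Group Q] (e : G ≃* Q) :
    blockRank 2 (principalBlock M G) = blockRank 2 (principalBlock M Q) ∧
      Nat.card (principalBlock M G) = Nat.card (principalBlock M Q) :=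
  haveI := Finite.of_surjective e e.surjective
  kl_comp e.toMonoidHom e.surjective (by
    rw [(MonoidHom.ker_eq_bot_iff _).2 e.injective, card_bot]; norm_num) fun χ hχ =>
    ⟨H7.irrComp e.symm.toMonoidHom e.symm.surjective χ, H6.sameBlock_comp _ e.symm.surjective hχ,
      fun g => by simp⟩

variable (M) in
/-- `l(B₀(C(u)))` -/
noncomputable def lc (u : G) : ℕ := blockRank 2 (principalBlock M (centralizer ({u} : Set G)))

theorem lc_conj [M.IsMaximal] (u g : G) : lc M (g * u * g⁻¹) = lc M u := by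
  rw [lc, lc, ← cj_cent1]
  exact (kl_equiv ((centralizer ({u} : Set G)).equivMapOfInjective (MulAut.conj g).toMonoidHom
    (MulAut.conj g).injective)).1.symm

theorem lc_one [M.IsMaximal] : lc M (1 : G) = blockRank 2 (principalBlock M G) := by
  have e : centralizer ({1} : Set G) = ⊤ := by ext; simp [mem_centralizer_singleton_iff]
  rw [lc, e]
  exact (kl_equiv topEquiv).1

theorem two_mem (P : Sylow 2 G) {u : G} (hu : u ∈ (P : Subgroup G)) : ∃ k, orderOf u = 2 ^ k :=
  haveI := Fintype.ofFinite G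
  H8.exists_orderOf_pow_of_mem P.2 hu

theorem formula [Fintype G] (hM : IsPModular 2 M) (P : Sylow 2 G)
    (hP : ∀ a ∈ (P : Subgroup G), ∀ b ∈ (P : Subgroup G), a * b = b * a)
    [DecidablePred (· ∈ (P : Subgroup G))] :
    Nat.card (normalizer ((P : Subgroup G) : Set G)) * Nat.card (principalBlock M G) =
      ∑ u with u ∈ (P : Subgroup G), Nat.card ↥(normalizer ((P : Subgroup G) : Set G) ⊓
        centralizer ({u} : Set G)) * lc M u := by
  classical
  haveI := hM.2.1
  set N := normalizer ((P : Subgroup G) : Set G) with hN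
  have hS := isSylIn_top P
  obtain ⟨X, hX, hr⟩ := H8.exists_pClass_reps N 2
  have hm : ∀ x : N, (∃ k, orderOf x = 2 ^ k) ↔ (x : G) ∈ (P : Subgroup G) := fun x =>
    ⟨fun ⟨k, hk⟩ => hS.mem_of_normalizes (k := k) (by rwa [orderOf_coe]) trivial x.2,
      fun h => by simpa only [orderOf_coe] using two_mem P h⟩
  have h1 := H7.sum_card_centralizer_mul (G := N) (fun x => ∃ k, orderOf x = 2 ^ k)
    (fun x y h hx => by
      obtain ⟨g, rfl⟩ := isConj_iff.1 h
      rwa [H6.orderOf_conj']) X hX hr (fun x => lc M (x : G)) fun x g => lc_conj _ _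
  have h2 := H8.card_eq_sum_blockRank hM (H6.isPBlock_principal (M := M) (G := G))
    (X.map ⟨Subtype.val, Subtype.val_injective⟩) (fun x hx => by
      obtain ⟨y, hy, rfl⟩ := Finset.mem_map.1 hx
      exact two_mem P ((hm y).1 (hX y hy))) fun g hg => by
      obtain ⟨k, hk⟩ := hg
      obtain ⟨c, -, hc⟩ := hS.exists_conj_mem hk trivial
      obtain ⟨x, ⟨h3, h4⟩, h5⟩ := hr ⟨_, le_normalizer hc⟩ ((hm _).2 hc)
      have h6 : IsConj g x := (isConj_iff.2 ⟨c, rfl⟩).trans (N.subtype.map_isConj h4)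
      refine ⟨x, ⟨Finset.mem_map_of_mem _ h3, h6⟩, ?_⟩
      rintro _ ⟨hy', h7⟩
      obtain ⟨y, hy, rfl⟩ := Finset.mem_map.1 hy'
      obtain ⟨d, hd⟩ := isConj_iff.1 (h6.symm.trans h7)
      have h8 := (hm y).1 (hX y hy)
      obtain ⟨n, -, h9, h10⟩ := hS.exists_normalizer_conj (x := x) (g := d) trivial
        (fun s hs => hP s hs _ ((hm x).1 (hX x h3))) (fun s hs => hP s hs _ (hd ▸ h8))
      exact congrArg Subtype.val (h5 y ⟨hy, h4.trans
        (isConj_iff.2 ⟨⟨n, h9⟩, Subtype.ext (h10.trans hd)⟩)⟩)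
  rw [Finset.sum_map] at h2
  rw [h2, Finset.sum_congr rfl (g := fun x : N => lc M (x : G)) fun x hx => by
    change ∑ b ∈ H8.indBlocks M (centralizer {(x : G)}) _, _ = _
    rw [(H8.secData_centralizer (two_mem P ((hm x).1 (hX x hx)))).indBlocks_principal hM,
      Finset.sum_singleton]; rfl, ← h1]
  refine Finset.sum_bij (fun x _ => (x : G)) (fun x hx => ?_) (fun _ _ _ _ h => Subtype.ext h)
    (fun u hu => ?_) fun x _ => ?_
  · simpa using (hm x).1 (by simpa using hx)
  · have h3 := (Finset.mem_filter.1 hu).2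
    exact ⟨⟨u, le_normalizer h3⟩, Finset.mem_filter.2 ⟨Finset.mem_univ _, (hm _).2 h3⟩, rfl⟩
  · congr 1
    rw [← H11.card_map_subtype]
    congr 2
    ext g
    simp only [mem_map, mem_centralizer_singleton_iff, mem_inf]
    exact ⟨by rintro ⟨y, h3, rfl⟩; exact ⟨y.2, congrArg Subtype.val h3⟩,
      fun h => ⟨⟨g, h.1⟩, Subtype.ext h.2, rfl⟩⟩

end Cfsg.Agent.H9.AB
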