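import Cfsg.Agent.H9.AB2

/-! Abelian Sylow `2`-subgroups: the inertial index. -/

set_option autoImplicit false
set_option linter.unusedSectionVars false

namespace Cfsg.Agent.H9.AB

open Subgroup Cfsg.Agent.H4 Cfsg.Agent.WA Cfsg.Agent.H10 Cfsg.Agent.H11
open scoped ComplexConjugate

variable {G : Type*} [Group G] [Finite G] {M : Ideal AlgInt}

abbrev NN (P : Sylow 2 G) : Subgroup G := normalizer ((P : Subgroup G) : Set G)
abbrev CC (P : Sylow 2 G) : Subgroup G := centralizer ((P : Subgroup G) : Set G)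
noncomputable abbrev ee (P : Sylow 2 G) : ℕ := (CC P).relIndex (NN P)
abbrev ZZ (P : Sylow 2 G) : Subgroup G := (P : Subgroup G) ⊓ centralizer (NN P : Set G)

variable {P : Sylow 2 G}

theorem CC_le : CC P ≤ NN P := centralizer_le_normalizer _

theorem card_NN : Nat.card (NN P) = Nat.card (CC P) * ee P := (H11.card_mul_relIndex CC_le).symm

theorem pow_ee_mem {g : G} (hg : g ∈ NN P) : g ^ ee P ∈ CC P := by
  haveI : ((CC P).subgroupOf (NN P)).Normal := (normal_subgroupOf_iff_le_normalizer CC_le).2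
    (H10.normalizer_le_normalizer_centralizer _)
  exact mem_subgroupOf.1 (((CC P).subgroupOf (NN P)).pow_index_mem (⟨g, hg⟩ : NN P))

theorem ee_subtype {H : Subgroup G} (h : (P : Subgroup G) ≤ H) :
    ee (P.subtype h) = (CC P).relIndex (NN P ⊓ H) := by
  have e1 : NN (P.subtype h) = (NN P ⊓ H).subgroupOf H := by
    rw [inf_subgroupOf_right, subgroupOf_normalizer_eq h]; rfl
  have e2 : CC (P.subtype h) = (CC P).subgroupOf H := by
    ext g
    exact ⟨fun hg x hx => congrArg Subtype.val (hg ⟨x, h hx⟩ hx),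
      fun hg x hx => Subtype.ext (hg x hx)⟩
  rw [ee, e1, e2, relIndex_subgroupOf inf_le_right]

theorem mid (he : (ee P).Prime) {H : Subgroup G} (h1 : CC P ≤ H) (h2 : H ≤ NN P) :
    H ≤ CC P ∨ NN P ≤ H := by
  have h3 := relIndex_mul_relIndex _ _ _ h1 h2
  rcases (Nat.dvd_prime he).1 (Dvd.intro _ h3) with h | h
  · exact .inl (relIndex_eq_one.1 h)
  · rw [h] at h3
    exact .inr (relIndex_eq_one.1 (Nat.eq_of_mul_eq_mul_left he.pos (h3.trans (mul_one _).symm)))

theorem NN_map (K : Subgroup G) [K.Normal] :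
    NN (P.mapSurjective (QuotientGroup.mk'_surjective K)) = (NN P).map (QuotientGroup.mk' K) := by
  refine le_antisymm (fun q hq => ?_) (le_normalizer_map _)
  obtain ⟨g, rfl⟩ := QuotientGroup.mk'_surjective K q
  have h1 : g ∈ normalizer (((P : Subgroup G) ⊔ K : Subgroup G) : Set G) := by
    rw [← QuotientGroup.ker_mk' K, ← comap_map_eq, ← comap_normalizer_eq_of_surjective _
      (QuotientGroup.mk'_surjective K)]
    exact hq
  obtain ⟨n, hn, h2⟩ := (isSylIn_of_sylow_le P le_sup_left).frattini h1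
  have h3 : QuotientGroup.mk' K n ∈ (NN P).map (QuotientGroup.mk' K) := by
    rw [← mem_comap, comap_map_eq, QuotientGroup.ker_mk']
    exact sup_le_sup_right le_normalizer _ hn
  have h4 := mem_map_of_mem (QuotientGroup.mk' K) h2
  rwa [map_mul, Subgroup.mul_mem_cancel_left _ h3] at h4

theorem ee_map (K : Subgroup G) [K.Normal] (h : ∀ g ∈ NN P, ∀ x ∈ (P : Subgroup G),
    g * x * g⁻¹ * x⁻¹ ∈ K → g * x * g⁻¹ = x) :
    ee (P.mapSurjective (QuotientGroup.mk'_surjective K)) = ee P := by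
  rw [ee, NN_map, ← relIndex_comap, ← inf_relIndex_right]
  congr 1
  refine le_antisymm (fun g hg x hx => ?_) (le_inf (fun g hg => ?_) CC_le)
  · refine (mul_inv_eq_iff_eq_mul.1 (h g hg.2 x hx ?_)).symm
    have := hg.1 _ (mem_map_of_mem (QuotientGroup.mk' K) hx)
    rw [← QuotientGroup.ker_mk' K, MonoidHom.mem_ker, map_mul, map_mul, map_mul, ← this]
    simp
  · rintro _ ⟨x, hx, rfl⟩
    rw [← map_mul, ← map_mul, hg x hx]

theorem comm_mem {g x : G} (hg : g ∈ NN P) (hx : x ∈ (P : Subgroup G)) :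
    g * x * g⁻¹ * x⁻¹ ∈ (P : Subgroup G) :=
  mul_mem (conj_mem_of_mem_normalizer hg hx) (inv_mem hx)

theorem fix_odd {K : Subgroup G} (hK : ¬ 2 ∣ Nat.card K) : ∀ g ∈ NN P, ∀ x ∈ (P : Subgroup G),
    g * x * g⁻¹ * x⁻¹ ∈ K → g * x * g⁻¹ = x := fun g hg x hx h => by
  have h1 : _ ∈ (P : Subgroup G) ⊓ K := ⟨comm_mem hg hx, h⟩
  rwa [inf_eq_bot_of_odd P.2 (Nat.odd_iff.2 (by omega)), mem_bot, mul_inv_eq_one] at h1

theorem card_map_odd {K : Subgroup G} [K.Normal] (hK : ¬ 2 ∣ Nat.card K) :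
    Nat.card (P.mapSurjective (QuotientGroup.mk'_surjective K)) = Nat.card P := by
  rw [Sylow.card_eq_multiplicity, Sylow.card_eq_multiplicity,
    card_eq_card_quotient_mul_card_subgroup K, Nat.factorization_mul Nat.card_pos.ne'
    Nat.card_pos.ne', Finsupp.add_apply, Nat.factorization_eq_zero_of_not_dvd hK, add_zero]

theorem npc_of_ee (h : ee P = 1) : HasNormalPComplement 2 G :=
  H3.hasNormalPComplement_of_normalizer_le_centralizer P (relIndex_eq_one.1 h)

theorem rank_iff (hM : IsPModular 2 M) :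
    blockRank 2 (principalBlock M G) = 1 ↔ HasNormalPComplement 2 G :=
  haveI := Fintype.ofFinite G
  ((S4691.result 2 M hM).trans (S4646.result 2 M hM)).symm

variable (hP : (P : Subgroup G) ≤ CC P)
include hP

theorem odd_ee : ¬ 2 ∣ ee P := fun h => (isSylIn_of_sylow_le P le_normalizer).not_dvd_relIndex
  (h.trans (relIndex_dvd_of_le_left _ hP))

theorem fix {g x : G} (hg : g ∈ NN P) (hx : x ∈ (P : Subgroup G))
    (hz : Commute g (g * x * g⁻¹ * x⁻¹)) : g * x * g⁻¹ = x := by
  have h0 := comm_mem hg hx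
  set z := g * x * g⁻¹ * x⁻¹ with hz'
  have h1 : ∀ n : ℕ, g ^ n * x = z ^ n * x * g ^ n := fun n => by
    induction n with
    | zero => simp
    | succ n ih =>
      rw [pow_succ', mul_assoc, ih, ← mul_assoc, ← mul_assoc, (hz.pow_right n).eq, pow_succ,
        show z ^ n * g * x = z ^ n * z * x * g by rw [hz']; group, mul_assoc]
  have h2 := h1 (ee P)
  rw [← pow_ee_mem hg x hx, mul_assoc, right_eq_mul] at h2
  obtain ⟨k, hk⟩ := two_mem P h0
  have h3 := orderOf_dvd_of_pow_eq_one h2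
  rw [← mul_inv_eq_one, ← hz', ← orderOf_eq_one_iff, hk]
  rcases k with _ | k
  · rfl
  · exact absurd ((dvd_pow_self 2 k.succ_ne_zero).trans (hk ▸ h3)) (odd_ee hP)

theorem hP_map (K : Subgroup G) [K.Normal] :
    (P.mapSurjective (QuotientGroup.mk'_surjective K) : Subgroup (G ⧸ K)) ≤
      CC (P.mapSurjective (QuotientGroup.mk'_surjective K)) := by
  rintro _ ⟨a, ha, rfl⟩ _ ⟨b, hb, rfl⟩
  rw [← map_mul, ← map_mul, hP ha b hb]

theorem hP_subtype {H : Subgroup G} (h : (P : Subgroup G) ≤ H) :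
    (P.subtype h : Subgroup H) ≤ CC (P.subtype h) := fun _ ha _ hb => Subtype.ext (hP ha _ hb)

theorem le_cent {u : G} (hu : u ∈ (P : Subgroup G)) :
    (P : Subgroup G) ≤ centralizer ({u} : Set G) := fun _ hx =>
  mem_centralizer_singleton_iff.2 (hP hu _ hx)

theorem ab2 : Ab2 (⊤ : Subgroup G) :=
  ab2_of_sylow P ⟨⟨fun a b => Subtype.ext (hP b.2 a a.2)⟩⟩

omit hP in
theorem CC_le_cent {u : G} (hu : u ∈ (P : Subgroup G)) : CC P ≤ NN P ⊓ centralizer ({u} : Set G) :=
  le_inf CC_le fun _ hx => mem_centralizer_singleton_iff.2 (hx u hu).symm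

theorem npc_cent {u : G} (hu : u ∈ (P : Subgroup G))
    (h : NN P ⊓ centralizer ({u} : Set G) ≤ CC P) :
    HasNormalPComplement 2 (centralizer ({u} : Set G)) :=
  npc_of_ee (P := P.subtype (le_cent hP hu)) (by rw [ee_subtype, relIndex_eq_one]; exact h)

theorem le_NN_of_npc (h : HasNormalPComplement 2 G) : NN P ≤ CC P := fun g hg => by
  obtain ⟨y, hy, h1⟩ := H3.exists_sylow_conj_of_hasNormalPComplement h P g
  intro x hx
  have h2 := h1 x hx (conj_mem_of_mem_normalizer hg hx)
  rw [← hP hy x hx, mul_inv_cancel_right] at h2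
  exact (mul_inv_eq_iff_eq_mul.1 h2.symm).symm

theorem formula' [Fintype G] (hM : IsPModular 2 M) [DecidablePred (· ∈ (P : Subgroup G))] :
    ee P * Nat.card (principalBlock M G) = ∑ u with u ∈ (P : Subgroup G),
      (CC P).relIndex (NN P ⊓ centralizer ({u} : Set G)) * lc M u := by
  have h := formula hM P fun a ha b hb => hP hb a ha
  rw [card_NN, mul_assoc, Finset.sum_congr rfl (g := fun u => Nat.card (CC P) *
    ((CC P).relIndex (NN P ⊓ centralizer ({u} : Set G)) * lc M u)) fun u hu => by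
      rw [← H11.card_mul_relIndex (CC_le_cent (Finset.mem_filter.1 hu).2), mul_assoc],
    ← Finset.mul_sum] at h
  exact Nat.eq_of_mul_eq_mul_left Nat.card_pos h

theorem stab (he : (ee P).Prime) {u : G} (hu : u ∈ (P : Subgroup G)) (h : u ∉ ZZ P) :
    NN P ⊓ centralizer ({u} : Set G) ≤ CC P :=
  (mid he (CC_le_cent hu) inf_le_left).resolve_right fun h1 =>
    h ⟨hu, fun g hg => mem_centralizer_singleton_iff.1 (h1 hg).2⟩

omit hP [Finite G] in
theorem card_filter [Fintype G] (H : Subgroup G) [DecidablePred (· ∈ H)] :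
    (Finset.univ.filter (· ∈ H)).card = Nat.card H := by
  rw [Nat.card_eq_fintype_card, Fintype.card_subtype]

theorem formula_prime [Fintype G] (hM : IsPModular 2 M) (he : (ee P).Prime)
    [DecidablePred (· ∈ ZZ P)] :
    ee P * Nat.card (principalBlock M G) + Nat.card (ZZ P) =
      ee P * ∑ u with u ∈ ZZ P, lc M u + Nat.card P := by
  classical
  have e : (Finset.univ.filter (· ∈ (P : Subgroup G))).filter (· ∈ ZZ P) =
      Finset.univ.filter (· ∈ ZZ P) := by
    ext u
    simp only [Finset.mem_filter, Finset.mem_univ, true_and]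
    exact ⟨fun h => h.2, fun h => ⟨h.1, h⟩⟩
  rw [formula' hP hM, ← Finset.sum_filter_add_sum_filter_not _ (· ∈ ZZ P), ← card_filter (ZZ P),
    ← card_filter (P : Subgroup G), ← Finset.card_filter_add_card_filter_not
      (s := Finset.univ.filter (· ∈ (P : Subgroup G))) (· ∈ ZZ P), e, Finset.mul_sum, add_assoc,
      add_comm _ (Finset.card _)]
  congr 1
  · refine Finset.sum_congr rfl fun u hu => ?_
    rw [inf_eq_left.2 fun g hg => mem_centralizer_singleton_iff.2
      ((Finset.mem_filter.1 hu).2.2 g hg)]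
  · congr 1
    rw [Finset.card_eq_sum_ones]
    refine Finset.sum_congr rfl fun u hu => ?_
    obtain ⟨h1, h2⟩ := Finset.mem_filter.1 hu
    have h3 := stab hP he (Finset.mem_filter.1 h1).2 h2
    rw [relIndex_eq_one.2 h3, one_mul]
    exact (rank_iff hM).2 (npc_cent hP (Finset.mem_filter.1 h1).2 h3)

end Cfsg.Agent.H9.AB
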