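import Cfsg.Agent.H9.AB3
import Cfsg.Agent.H8.OneBlk
import Cfsg.Agent.H12.Lin
import Cfsg.Agent.H6.ZStar2
import Cfsg.Agent.S4571

/-! Abelian Sylow `2`-subgroups with prime inertial index. -/

set_option autoImplicit false
set_option linter.unusedSectionVars false

namespace Cfsg.Agent.H9.AB

open Subgroup Cfsg.Agent.H4 Cfsg.Agent.WA Cfsg.Agent.H10 Cfsg.Agent.H11
open scoped MatrixGroups ComplexConjugate

universe u

section
variable {G : Type*} [Group G] [Finite G] {M : Ideal AlgInt} {P : Sylow 2 G}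

theorem card_orb {u : G} (hu : u ∈ (P : Subgroup G)) :
    Nat.card {x : G | ∃ g ∈ NN P, g * u * g⁻¹ = x} *
      (CC P).relIndex (NN P ⊓ centralizer ({u} : Set G)) = ee P := by
  have h := card_centralizer_mul_card_isConj (⟨u, le_normalizer hu⟩ : NN P)
  have e1 : Nat.card (centralizer ({⟨u, le_normalizer hu⟩} : Set (NN P))) =
      Nat.card ↥(NN P ⊓ centralizer ({u} : Set G)) := by
    rw [← H11.card_map_subtype]
    congr 2
    ext g
    simp only [mem_map, mem_centralizer_singleton_iff, mem_inf]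
    exact ⟨by rintro ⟨y, h3, rfl⟩; exact ⟨y.2, congrArg Subtype.val h3⟩,
      fun h => ⟨⟨g, h.1⟩, Subtype.ext h.2, rfl⟩⟩
  have e2 : Nat.card {x : NN P // IsConj ⟨u, le_normalizer hu⟩ x} =
      Nat.card {x : G | ∃ g ∈ NN P, g * u * g⁻¹ = x} :=
    Nat.card_eq_of_bijective (fun x => ⟨x.1, by
      obtain ⟨g, hg⟩ := isConj_iff.1 x.2
      exact ⟨g, g.2, congrArg Subtype.val hg⟩⟩)
      ⟨fun a b e => Subtype.ext (Subtype.ext (Subtype.mk.inj e)), by
        rintro ⟨_, g, hg, rfl⟩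
        exact ⟨⟨_, isConj_iff.2 ⟨⟨g, hg⟩, rfl⟩⟩, rfl⟩⟩
  rw [e1, e2, card_NN, ← H11.card_mul_relIndex (CC_le_cent hu), mul_assoc] at h
  rw [mul_comm]
  exact Nat.eq_of_mul_eq_mul_left Nat.card_pos h

theorem sq_eq_one {c d ε : ℤ} (hc : 4 ≤ c) (hε : ε = 1 ∨ ε = -1) (h1 : c ∣ d - ε)
    (h2 : d ^ 2 ≤ c) : d ^ 2 = 1 := by
  obtain ⟨t, ht⟩ := h1
  rcases lt_trichotomy t 0 with h | rfl | h
  · have : d ≤ 1 - c := by rcases hε with rfl | rfl <;> nlinarith
    nlinarith
  · rcases hε with rfl | rfl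
    · rw [show d = 1 by linarith]; rfl
    · rw [show d = -1 by linarith]; rfl
  · have : c - 1 ≤ d := by rcases hε with rfl | rfl <;> nlinarith
    nlinarith

theorem card_psl (hM : IsPModular 2 M) [IsSimpleGroup G] (hG : ¬ IsMulCommutative G) {F : Type}
    [Field F] [Fintype F] {n : ℕ} (hn : 2 ≤ n) (hF : Fintype.card F = 2 ^ n)
    (e : G ≃* PSL(2, F)) (h2 : Ab2 (⊤ : Subgroup G)) (h4 : 4 ≤ Nat.card P) {x : G}
    (hx : x * x = 1) (hc : HasNormalPComplement 2 (centralizer ({x} : Set G)))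
    (ht : ∀ y ∈ (P : Subgroup G), y ≠ 1 → IsConj x y) :
    Nat.card (principalBlock M G) = Nat.card P := by
  classical
  haveI := Fintype.ofFinite G
  obtain ⟨d, h5, -, h7⟩ := column hM hx hc
  have h8 : (2 : ℤ) ^ (Nat.card (centralizer ({x} : Set G))).factorization 2 = Nat.card P := by
    exact_mod_cast pow_cent h2 P (zp_two hx)
  rw [h8] at h7
  have h9 : Nat.card P ∣ 2 ^ n := by
    have h10 := H12.card_PSL2 hF
    have h11 : Nat.card P ∣ 2 ^ n * ((2 ^ n) ^ 2 - 1) := by
      rw [← h10, ← Nat.card_congr e.toEquiv]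
      exact (card_subgroup_dvd_card _).mul_left _
    refine Nat.Coprime.dvd_of_dvd_mul_right ?_ h11
    rw [P.card_eq_multiplicity]
    refine (Nat.prime_two.coprime_iff_not_dvd.2 fun h => ?_).pow_left _
    have h12 : 2 ∣ (2 ^ n) ^ 2 := (dvd_pow_self 2 (by omega)).pow two_ne_zero
    have h13 : 0 < (2 ^ n) ^ 2 := by positivity
    omega
  have h10 : ∀ χ ∈ H8.bfin (principalBlock M G), d χ ^ 2 = 1 := fun χ hχ => by
    obtain ⟨m, hm⟩ := (χ.2.isCharacter.restrict (P : Subgroup G)).classInner_nat isCharacter_one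
    have h11 := card_mul_classInner (φ := fun y : (P : Subgroup G) => (χ : G → ℂ) y)
      (ψ := fun _ => 1)
    rw [hm, ← Finset.add_sum_erase _ _ (Finset.mem_univ 1), Finset.sum_congr rfl
      (g := fun _ => (d χ : ℂ)) fun y hy => by
        obtain ⟨c, hc⟩ := isConj_iff.1 (ht y y.2 fun h => (Finset.mem_erase.1 hy).1 (Subtype.ext h))
        rw [← hc, χ.2.isClassFunction, h5, map_one, mul_one],
      Finset.sum_const, Finset.card_erase_of_mem (Finset.mem_univ _), Finset.card_univ,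
      ← Nat.card_eq_fintype_card, nsmul_eq_mul, Nat.cast_sub Nat.card_pos, map_one, mul_one,
      OneMemClass.coe_one, ← H8.irr_coe_charDegree] at h11
    have h12 : (Nat.card P : ℤ) * m = charDegree (χ : G → ℂ) + (Nat.card P - 1) * d χ := by
      exact_mod_cast h11
    have h13 : d χ ^ 2 ≤ Nat.card P := h7 ▸ Finset.single_le_sum (f := fun χ => d χ ^ 2)
      (fun _ _ => sq_nonneg _) hχ
    obtain ⟨r, hr⟩ := h9
    have hr' : (2 : ℤ) ^ n = Nat.card P * r := by exact_mod_cast hr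
    have h14 : (4 : ℤ) ≤ Nat.card P := by exact_mod_cast h4
    rcases degs hM hG hn hF e (H8.mem_bfin.1 hχ) with h | h | h
    · refine sq_eq_one h14 (.inl rfl) ⟨d χ - m, ?_⟩ h13
      rw [h] at h12
      push_cast at h12
      linear_combination h12
    · refine sq_eq_one h14 (.inl rfl) ⟨d χ - m + r, ?_⟩ h13
      rw [h] at h12
      push_cast at h12
      linear_combination h12 + hr'
    · refine sq_eq_one h14 (.inr rfl) ⟨d χ - m + r, ?_⟩ h13
      have h15 : (charDegree (χ : G → ℂ) : ℤ) + 1 = 2 ^ n := by exact_mod_cast h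
      linear_combination h12 + hr' + h15
  rw [Finset.sum_congr rfl h10, Finset.sum_const, H8.card_bfin] at h7
  simpa using h7

variable (hP : (P : Subgroup G) ≤ CC P)
include hP

theorem rank_frob (hM : IsPModular 2 M) (he : (ee P).Prime) (hZ : ZZ P = ⊥) (hN : NN P = ⊤)
    (hC : CC P ≤ P) : blockRank 2 (principalBlock M G) = ee P := by
  classical
  haveI := hM.2.1
  haveI := Fintype.ofFinite G
  haveI := normalizer_eq_top_iff.1 hN
  have h1 := H8.principal_eq_univ_of_centralizer hM P.2 (P.2.to_le hC)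
  have h2 : (P : Subgroup G).index = ee P := by
    rw [ee, hN, le_antisymm hC hP, relIndex_top_right]
  have h3 : ∀ x ∉ (P : Subgroup G), Nat.card (centralizer ({x} : Set G)) = ee P := fun x hx => by
    have h4 : (P : Subgroup G) ⊓ centralizer ({x} : Set G) = ⊥ := eq_bot_iff.2 fun y hy =>
      by_contra fun h => hx (hC (stab hP he hy.1 (by rwa [hZ]) ⟨hN ▸ mem_top x,
        mem_centralizer_singleton_iff.2 (mem_centralizer_singleton_iff.1 hy.2).symm⟩))
    have h5 := relIndex_dvd_index_of_normal (P : Subgroup G) (centralizer ({x} : Set G))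
    rw [← inf_relIndex_right, h4, relIndex_bot_left, h2] at h5
    refine ((Nat.dvd_prime he).1 h5).resolve_left fun h => hx ?_
    have : x ∈ centralizer ({x} : Set G) := mem_centralizer_singleton_iff.2 rfl
    rw [card_eq_one.1 h, mem_bot] at this
    exact this ▸ one_mem _
  have h4 : (Nat.card G : ℂ) * blockRank 2 (principalBlock M G) = ∑ x : G,
      ((if x = 1 then (Nat.card G : ℂ) else 0) +
        (ee P - if x ∈ (P : Subgroup G) then (ee P : ℂ) else 0)) := by
    rw [H8.blockRank_eq_sum hM H6.isPBlock_principal, Finset.mul_sum, h1,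
      show H8.bfin (Set.univ : Set (IrrCharacter G)) = Finset.univ by ext; simp]
    simp only [card_mul_classInner]
    rw [Finset.sum_comm]
    refine Finset.sum_congr rfl fun x _ => ?_
    by_cases hx : 2 ∣ orderOf x
    · have h5 : x ∈ (P : Subgroup G) := by_contra fun h => odd_ee hP (hx.trans (h3 x h ▸
        (centralizer ({x} : Set G)).orderOf_dvd_natCard (mem_centralizer_singleton_iff.2 rfl)))
      have h6 : x ≠ 1 := by rintro rfl; simp at hx
      simp [H6.pRegularPart_of_dvd _ hx, h5, h6]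
    · simp only [H6.pRegularPart_of_not_dvd _ hx]
      rw [column_orthogonality_of_isConj (IsConj.refl x)]
      by_cases h5 : x ∈ (P : Subgroup G)
      · obtain ⟨k, hk⟩ := two_mem P h5
        obtain rfl : x = 1 := by
          rcases k with _ | k
          · exact orderOf_eq_one_iff.1 hk
          · exact absurd (hk ▸ dvd_pow_self 2 k.succ_ne_zero) hx
        have e : centralizer ({1} : Set G) = ⊤ := by ext; simp [mem_centralizer_singleton_iff]
        simp [e]
      · have h6 : x ≠ 1 := by rintro rfl; exact h5 (one_mem _)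
        rw [h3 x h5]
        simp [h5, h6]
  rw [Finset.sum_add_distrib, Finset.sum_sub_distrib, Finset.sum_ite_eq', if_pos (Finset.mem_univ _),
    ← Finset.sum_filter, Finset.sum_const, Finset.sum_const, card_filter, Finset.card_univ,
    ← Nat.card_eq_fintype_card, ← (P : Subgroup G).card_mul_index, h2] at h4
  have h5 : (Nat.card P : ℂ) * ee P ≠ 0 :=
    mul_ne_zero (Nat.cast_ne_zero.2 Nat.card_pos.ne') (Nat.cast_ne_zero.2 he.ne_zero)
  have h6 : (blockRank 2 (principalBlock M G) : ℂ) = ee P := mul_left_cancel₀ h5 (by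
    push_cast at h4
    simp only [nsmul_eq_mul] at h4
    push_cast at h4
    linear_combination h4)
  exact_mod_cast h6

theorem normal_of_layer (hO : pPrimeCore 2 G = ⊥) (hL : layer G = ⊥) : NN P = ⊤ ∧ CC P ≤ P := by
  have h1 := fstar_eq_pCore_iff.1 (fstar_eq_pCore_iff'.2 ⟨hL, hO⟩)
  have h2 : pCore 2 G ≤ P := (isSylIn_top P).le_of_normalized (pCore_isPGroup' 2 G) le_top
    le_normalizer_of_normal
  have h3 : CC P ≤ pCore 2 G := (centralizer_le h2).trans h1
  refine ⟨normalizer_eq_top_iff.2 ?_, h3.trans h2⟩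
  rw [le_antisymm (hP.trans h3) h2]
  infer_instance

end

variable {G : Type u} [Group G] [Finite G] {M : Ideal AlgInt} {P : Sylow 2 G}
  (hP : (P : Subgroup G) ≤ CC P) (hO : pPrimeCore 2 G = ⊥) {L : Subgroup G}
include hP hO

section
variable (hL : CompOf L (⊤ : Subgroup G))
include hL

theorem splitP {s : G} (hs : s ∈ (P : Subgroup G)) :
    ∃ y ∈ (P : Subgroup G) ⊓ L, y⁻¹ * s ∈ (P : Subgroup G) ⊓ centralizer (L : Set G) := by
  have hc := cf_top hO (ab2 hP)
  obtain ⟨y, hy, h⟩ := exists_inner hc.core hc.ab hL P.2 le_top hs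
  have h1 : ∀ g ∈ (P : Subgroup G), g * y = y * g := fun g hg => comm_inner hc.core hc.ab hL hy h
    (two_le_norm hc.core hc.ab hL P.2 le_top hg) (hP hs g hg)
  obtain ⟨k, hk⟩ := two_mem P hs
  have h2 : Commute y (y⁻¹ * s) := h y hy
  have h3 := h2.mul_pow (2 ^ k)
  rw [mul_inv_cancel_left, ← hk, pow_orderOf_eq_one, eq_comm, mul_eq_one_iff_eq_inv] at h3
  have h4 : y ^ orderOf s ∈ L ⊓ centralizer (L : Set G) :=
    mem_inf.2 ⟨pow_mem hy _, h3 ▸ inv_mem (pow_mem h _)⟩
  rw [cen_bot hc.core hc.ab hL, mem_bot, hk] at h4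
  obtain ⟨j, -, hj⟩ := (Nat.dvd_prime_pow Nat.prime_two).1 (orderOf_dvd_of_pow_eq_one h4)
  have h5 := (isSylIn_top P).mem_of_commute hj trivial h1
  exact ⟨y, ⟨h5, hy⟩, mem_inf.2 ⟨mul_mem (inv_mem h5) hs, h⟩⟩

theorem card_split : Nat.card P = Nat.card ↥((P : Subgroup G) ⊓ L) *
    Nat.card ↥((P : Subgroup G) ⊓ centralizer (L : Set G)) := by
  have hc := cf_top hO (ab2 hP)
  have := H10.card_sup_mul_card_inf (N := (P : Subgroup G) ⊓ centralizer (L : Set G))
    (H := (P : Subgroup G) ⊓ L) (le_normalizer_of_le_centralizer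
      ((inf_le_left.trans hP).trans (centralizer_le inf_le_left)))
  rwa [le_antisymm (sup_le inf_le_left inf_le_left) fun s hs => by
    obtain ⟨y, hy, h⟩ := splitP hP hO hL hs
    simpa using mul_mem_sup hy h, eq_bot_iff.2 ((inf_le_inf inf_le_right inf_le_right).trans
      (cen_bot hc.core hc.ab hL).le), card_bot, mul_one] at this

theorem exists_C : 4 ≤ Nat.card ↥((P : Subgroup G) ⊓ L) ∧ (∀ v ∈ (P : Subgroup G) ⊓ L, v * v = 1) ∧
    ∃ C ≤ L ⊓ NN P, C ≤ normalizer (((P : Subgroup G) ⊓ L : Subgroup G) : Set G) ∧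
    ∀ v ∈ (P : Subgroup G) ⊓ L, v ≠ 1 → ∀ w ∈ (P : Subgroup G) ⊓ L, w ≠ 1 →
      ∃ c ∈ C, c * v * c⁻¹ = w := by
  have hc := cf_top hO (ab2 hP)
  have hV := sylIn_inf (isSylIn_top P) hL.subnormalIn
  obtain ⟨C, h1, h2, -, h3, -⟩ := (hc.nice L hL).cyc _ hV
  refine ⟨(hc.nice L hL).four _ hV, fun v hv => (hc.nice L hL).elem v hv.2 ?_, C,
    le_inf h1 fun c hc => mem_normalizer_of_forall fun s hs => ?_, h2, h3⟩
  · obtain ⟨k, hk⟩ := two_mem P hv.1
    exact ⟨k, hk ▸ pow_orderOf_eq_one v⟩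
  · obtain ⟨y, hy, h⟩ := splitP hP hO hL hs
    rw [show c * s * c⁻¹ = c * y * c⁻¹ * (c * (y⁻¹ * s) * c⁻¹) by group, h.2 c (h1 hc),
      mul_inv_cancel_right]
    exact mul_mem (conj_mem_of_mem_normalizer (h2 hc) hy).1 h.1

theorem comp_prime (he : (ee P).Prime) : NN P ≤ CC P ⊔ L ∧
    ZZ P = (P : Subgroup G) ⊓ centralizer (L : Set G) ∧
    Nat.card ↥((P : Subgroup G) ⊓ L) = ee P + 1 := by
  have hc := cf_top hO (ab2 hP)
  obtain ⟨h1, -, C, h2, h3, h4⟩ := exists_C hP hO hL
  have h5 : ∀ v ∈ (P : Subgroup G) ⊓ L, v ≠ 1 → ∃ c ∈ C, c * v * c⁻¹ ≠ v := fun v hv v1 => by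
    obtain ⟨w, hw, w1, wv⟩ := exists_ne_ne (le_trans (by norm_num) h1) v
    obtain ⟨c, hc, e⟩ := h4 v hv v1 w hw w1
    exact ⟨c, hc, e ▸ wv⟩
  obtain ⟨v, hv, v1, -⟩ := exists_ne_ne (le_trans (by norm_num) h1) (1 : G)
  have h6 : NN P ≤ CC P ⊔ C := (mid he le_sup_left
    (sup_le CC_le (h2.trans inf_le_right))).resolve_left fun h => by
      obtain ⟨c, hc, e⟩ := h5 v hv v1
      exact e (mul_inv_eq_iff_eq_mul.2 (h (mem_sup_right hc) v hv.1).symm)
  have h7 : ∀ v ∈ (P : Subgroup G) ⊓ L, v ∈ ZZ P → v = 1 := fun v hv h => by_contra fun v1 => by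
    obtain ⟨c, hc, e⟩ := h5 v hv v1
    exact e (mul_inv_eq_iff_eq_mul.2 (h.2 c (h2 hc).2))
  have h8 : (P : Subgroup G) ⊓ centralizer (L : Set G) ≤ ZZ P := le_inf inf_le_left
    (le_centralizer_iff.1 (h6.trans (sup_le (centralizer_le inf_le_left) (le_centralizer_iff.1
      (inf_le_right.trans (centralizer_le (h2.trans inf_le_left)))))))
  refine ⟨h6.trans (sup_le_sup_left (h2.trans inf_le_left) _), le_antisymm (fun z hz => ?_) h8, ?_⟩
  · obtain ⟨y, hy, h⟩ := splitP hP hO hL hz.1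
    have h9 : y ∈ ZZ P := by simpa using mul_mem hz (inv_mem (h8 h))
    simpa [h7 y hy h9] using h
  · have h9 := card_orb (P := P) hv.1
    rw [relIndex_eq_one.2 (stab hP he hv.1 fun h => v1 (h7 v hv h)), mul_one] at h9
    have h10 : NN P ≤ normalizer (((P : Subgroup G) ⊓ L : Subgroup G) : Set G) :=
      h6.trans (sup_le ((centralizer_le inf_le_left).trans (centralizer_le_normalizer _)) h3)
    have h11 : {x : G | ∃ g ∈ NN P, g * v * g⁻¹ = x} =
        (((P : Subgroup G) ⊓ L : Subgroup G) : Set G) \ {1} := by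
      ext x
      constructor
      · rintro ⟨g, hg, rfl⟩
        exact ⟨conj_mem_of_mem_normalizer (h10 hg) hv, by simpa using v1⟩
      · rintro ⟨hx, x1⟩
        obtain ⟨c, hc, e⟩ := h4 v hv v1 x hx x1
        exact ⟨c, (h2 hc).2, e⟩
    rw [← h9, h11, Nat.card_coe_set_eq, Set.ncard_diff_singleton_add_one (one_mem _)]
    rfl

theorem card_free (hM : IsPModular 2 M) (he : (ee P).Prime) (hZ : ZZ P = ⊥) :
    Nat.card (principalBlock M G) = Nat.card P := by
  have hc := cf_top hO (ab2 hP)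
  obtain ⟨h1, h2, -⟩ := comp_prime hP hO hL he
  obtain ⟨h4, h5, C, -, -, h6⟩ := exists_C hP hO hL
  have h7 : (P : Subgroup G) ≤ L := fun s hs => by
    obtain ⟨y, hy, h⟩ := splitP hP hO hL hs
    rw [← h2, hZ, mem_bot, inv_mul_eq_one] at h
    exact h ▸ hy.2
  rw [inf_eq_left.2 h7] at h4 h5 h6
  obtain ⟨x, hx, x1, -⟩ := exists_ne_ne (le_trans (by norm_num) h4) (1 : G)
  have h8 := npc_cent hP hx (stab hP he hx (by rwa [hZ]))
  have h9 : Nat.card P = 4 ∨ Nat.card P = 8 → Nat.card (principalBlock M G) = Nat.card P := by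
    obtain ⟨a, b, c⟩ := card_cong hM hc.ab P ⟨x, h5 x hx, h8⟩
    omega
  haveI := simple_of_comp hc.core hc.ab hL
  have h10 := not_comm_of_comp hc.core hc.ab hL
  have h11 := hc.ab.mono hL.le
  have hV := isSylIn_of_sylow_le P h7
  rcases walter h10 h11.top with ⟨F, _, _, ⟨n, hn, hF⟩, ⟨e⟩⟩ | ⟨F, _, _, hF, -, ⟨e⟩⟩ | h12
  swap
  · exact h9 (.inl ((QT.of_psl h10 h11 (Nat.odd_iff.2 (by omega)) e).kl _ hV).card_four)
  swap
  · obtain ⟨-, -, -, h13⟩ := JRT.jat h10 h11 h12
    exact h9 (.inr (h13 _ hV).2)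
  have h12 : ∀ g, g ∈ normalizer (L : Set G) := fun g => by
    obtain ⟨n, -, h13⟩ := (isSylIn_top P).exists_cj_eq (isSylIn_top (g • P))
    refine cj_eq_iff.1 (by_contra fun hne => x1 ?_)
    have h14 := commutator_eq_bot_iff_le_centralizer.1
      ((hL.conj (le_normalizer (mem_top g))).commutator_eq_bot hL hne)
    have h15 : g * x * g⁻¹ ∈ centralizer (L : Set G) := h14 (H11.conj_mem_map_conj g (h7 hx))
    obtain ⟨k, hk⟩ := two_mem P hx
    have h16 : g * x * g⁻¹ ∈ ZZ P := h2 ▸ ⟨(isSylIn_top P).mem_of_commute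
      (by rw [H6.orderOf_conj', hk]) trivial fun s hs => h15 s (h7 hs), h15⟩
    simpa [hZ] using h16
  haveI : L.Normal := normalizer_eq_top_iff.1 (eq_top_iff.2 fun g _ => h12 g)
  have h13 : centralizer (L : Set G) = ⊥ := by
    have h14 := ((isSylIn_top P).inf_of_normalized (N := centralizer (L : Set G)) le_top
      le_normalizer_of_normal).not_dvd_relIndex
    rw [← h2, hZ, relIndex_bot_left] at h14
    exact eq_bot_iff.2 (hO ▸ le_pPrimeCore (Nat.prime_two.coprime_iff_not_dvd.2 h14).symm)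
  have h14 : CC P ≤ L := fun c hc => by
    obtain ⟨a, b, h15, -, ⟨k, hk⟩, h16⟩ := H6.exists_isPPart Nat.prime_two (⟨c, hc⟩ : CC P)
    have h17 := (BT.of_psl hF e).cent_of_cent h10 h11 hV (h12 b)
      (Nat.odd_iff.2 (by rw [orderOf_coe]; omega)) b.2
    rw [h13, mem_bot] at h17
    have h18 : (a : G) * b = c := congrArg Subtype.val h15
    rw [← h18, h17, mul_one]
    exact h7 ((isSylIn_top P).mem_of_commute (k := k) (by rwa [orderOf_coe]) trivial a.2)
  obtain rfl : L = ⊤ := eq_top_iff.2 fun g _ => by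
    obtain ⟨n, hn, h15⟩ := hV.frattini (h12 g)
    exact (L.mul_mem_cancel_left hn).1 (sup_le h14 le_rfl (h1 h15))
  haveI : IsSimpleGroup G := topEquiv.symm.isSimpleGroup
  exact card_psl hM (fun e => h10 inferInstance) hn hF (topEquiv.symm.trans e) hc.ab h4 (h5 x hx)
    h8 fun y hy y1 => by
      obtain ⟨c, -, e⟩ := h6 x hx x1 y hy y1
      exact isConj_iff.2 ⟨c, e⟩

end

omit hP hO in
theorem exists_comp (h : layer G ≠ ⊥) : ∃ L, CompOf L (⊤ : Subgroup G) := by
  rw [← LayOf_top, Ne, LayOf_eq_bot_iff] at h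
  push Not at h
  exact h

theorem rank_free (hM : IsPModular 2 M) (he : (ee P).Prime) (hZ : ZZ P = ⊥) :
    blockRank 2 (principalBlock M G) = ee P := by
  classical
  haveI := hM.2.1
  haveI := Fintype.ofFinite G
  by_cases h : layer G = ⊥
  · exact rank_frob hP hM he hZ (normal_of_layer hP hO h).1 (normal_of_layer hP hO h).2
  obtain ⟨L, hL⟩ := exists_comp h
  obtain ⟨-, h1, h2⟩ := comp_prime hP hO hL he
  have h3 := formula_prime hP hM he
  have h4 := card_split hP hO hL
  rw [← h1, h2, hZ, card_bot, mul_one] at h4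
  rw [card_free hP hO hL hM he hZ, h4, Finset.sum_eq_single_of_mem 1 (by simp)
    (fun u hu u1 => absurd (mem_bot.1 (hZ ▸ (Finset.mem_filter.1 hu).2)) u1), lc_one, hZ,
    card_bot] at h3
  exact Nat.eq_of_mul_eq_mul_left he.pos (by linarith)

theorem ZZ_le_center : ZZ P ≤ center G := fun z hz =>
  H6.mem_center_of_closed hO P hz.1 fun g hg => by
    obtain ⟨n, -, h1, h2⟩ := (isSylIn_top P).exists_normalizer_conj (g := g) trivial (hP hz.1)
      (hP hg)
    rw [← h2, hz.2 n h1, mul_inv_cancel_right]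

theorem rank_core (hM : IsPModular 2 M) (he : (ee P).Prime) :
    blockRank 2 (principalBlock M G) = ee P := by
  have h1 := ZZ_le_center hP hO
  haveI : (ZZ P).Normal := ⟨fun z hz g => by
    rwa [mem_center_iff.1 (h1 hz) g, mul_inv_cancel_right]⟩
  have h2 : ∀ g ∈ NN P, ∀ x ∈ (P : Subgroup G), g * x * g⁻¹ * x⁻¹ ∈ ZZ P → g * x * g⁻¹ = x :=
    fun g hg x hx h => fix hP hg hx (mem_center_iff.1 (h1 h) g)
  have h3 := ee_map (ZZ P) h2
  rw [S4571.result 2 M hM (ZZ P) (P.2.to_le inf_le_left) (eq_top_iff.2 fun g _ =>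
    mem_sup_right fun z hz => (mem_center_iff.1 (h1 hz) g).symm), ← h3]
  refine rank_free (hP_map hP _) (H6.pPrimeCore_quotient_of_le_center hO _ h1) hM (h3 ▸ he)
    (eq_bot_iff.2 ?_)
  rintro _ ⟨⟨x, hx, rfl⟩, h4⟩
  rw [mem_bot, ← MonoidHom.mem_ker, QuotientGroup.ker_mk']
  refine ⟨hx, fun g hg => mul_inv_eq_iff_eq_mul.1 (h2 g hg x hx ?_)⟩
  have h5 := h4 (QuotientGroup.mk' _ g) (by rw [NN_map]; exact mem_map_of_mem _ hg)
  rw [← QuotientGroup.ker_mk' (ZZ P), MonoidHom.mem_ker, map_mul, map_mul, map_mul, h5]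
  simp

omit hO in
theorem rank_prime (hM : IsPModular 2 M) (he : (ee P).Prime) :
    blockRank 2 (principalBlock M G) = ee P := by
  have h := ee_map (P := P) (pPrimeCore 2 G) (fix_odd not_dvd_core)
  rw [(kl_quot hM not_dvd_core).1, ← h]
  exact rank_core (hP_map hP _) (pPrimeCore_quotient_pPrimeCore 2 G) hM (h ▸ he)

omit hO in
theorem lc_prime (hM : IsPModular 2 M) {u : G} (hu : u ∈ (P : Subgroup G))
    (he : ((CC P).relIndex (NN P ⊓ centralizer ({u} : Set G))).Prime) :
    lc M u = (CC P).relIndex (NN P ⊓ centralizer ({u} : Set G)) := by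
  rw [← ee_subtype (le_cent hP hu)] at he ⊢
  exact rank_prime (hP_subtype hP _) hM he

theorem card_core (hM : IsPModular 2 M) (he : (ee P).Prime) (hs : ¬ Group.IsSolvable G) :
    Nat.card (principalBlock M G) = Nat.card P := by
  classical
  haveI := Fintype.ofFinite G
  obtain ⟨L, hL⟩ := exists_comp (G := G) fun h => hs (by
    haveI := normalizer_eq_top_iff.1 (normal_of_layer hP hO h).1
    haveI := H10.isSolvable_of_isPGroup P.2
    haveI : Group.IsSolvable (G ⧸ (P : Subgroup G)) :=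
      FT.solvable_of_odd (Nat.odd_iff.2 (by have := P.not_dvd_index; rw [index] at this; omega))
    exact solvable_of_ker_le_range (P : Subgroup G).subtype (QuotientGroup.mk' (P : Subgroup G))
      (by simp))
  obtain ⟨-, h1, h2⟩ := comp_prime hP hO hL he
  have h3 := formula_prime hP hM he
  have h4 := card_split hP hO hL
  rw [← h1, h2] at h4
  rw [Finset.sum_congr rfl (g := fun _ => ee P) fun u hu => by
    have h5 := (Finset.mem_filter.1 hu).2
    have h6 : NN P ⊓ centralizer ({u} : Set G) = NN P :=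
      inf_eq_left.2 fun g hg => mem_centralizer_singleton_iff.2 (h5.2 g hg)
    rw [lc_prime hP hM h5.1 (by rwa [h6]), h6], Finset.sum_const, card_filter, smul_eq_mul,
    h4] at h3
  rw [h4]
  exact Nat.eq_of_mul_eq_mul_left he.pos (by linarith)

omit hO in
theorem card_prime (hM : IsPModular 2 M) (he : (ee P).Prime) (hs : ¬ Group.IsSolvable G) :
    Nat.card (principalBlock M G) = Nat.card P := by
  have h := ee_map (P := P) (pPrimeCore 2 G) (fix_odd not_dvd_core)
  rw [(kl_quot hM not_dvd_core).2, ← card_map_odd (P := P) not_dvd_core]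
  refine card_core (hP_map hP _) (pPrimeCore_quotient_pPrimeCore 2 G) hM (h ▸ he) fun h1 => hs ?_
  haveI : Group.IsSolvable (pPrimeCore 2 G) :=
    FT.solvable_of_odd (Nat.odd_iff.2 (by have := not_dvd_core (G := G); omega))
  exact solvable_of_ker_le_range (pPrimeCore 2 G).subtype (QuotientGroup.mk' (pPrimeCore 2 G))
    (by simp)

end Cfsg.Agent.H9.AB
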