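import Cfsg.Agent.H9.Amal5
import Cfsg.Agent.H11.Invol

/-! Amalgams of type `(S₃, S₃)`: vertices not of characteristic `2`. -/

set_option autoImplicit false

namespace Cfsg.Agent.H9K

open Subgroup H24
open scoped commutatorElement

theorem nonempty_dih_three : Nonempty (DihedralGroup 3 ≃* Equiv.Perm (Fin 3)) :=
  H12.nonempty_equiv_perm_of_injective (H11.dihedralHom (n := 3) (a := finRotate 3)
    (s := Equiv.swap 0 1) (by decide) (by decide) (by decide))
    ((injective_iff_map_eq_one _).mpr (by decide)) (by rw [DihedralGroup.nat_card]; rfl)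

variable {G : Type*} [Group G] [Finite G]

theorem exists_zpowers_of_card_two {A : Subgroup G} (h : Nat.card A = 2) :
    ∃ a, orderOf a = 2 ∧ zpowers a = A := by
  obtain ⟨a, ha, h1⟩ := exists_orderOf_eq_prime (p := 2) h.symm.dvd
  exact ⟨a, h1, eq_of_le_of_card_le (zpowers_le.2 ha) (by rw [Nat.card_zpowers, h1, h])⟩

namespace Half

variable {A B N : Subgroup G} (h : Half A B)
include h

theorem res_le_centralizer (hc : ¬ CharP 2 A) : 𝐑[A] ≤ 𝐂[𝐎[A]] := by
  obtain ⟨x, hx, hxO⟩ := SetLike.not_le_iff_exists.1 hc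
  exact h.res_le (le_normalizer_centralizer (le_normalizer_pCoreOf 2 A)) hx.1 hx.2 hxO

theorem le_normalizer_of_res (h1 : 𝐑[A] ≤ 𝐂[N]) (h2 : B ≤ 𝐍[N]) : A ≤ 𝐍[N] :=
  h.res_sup.ge.trans (sup_le (le_normalizer_of_le_centralizer h1) h2)

theorem exists_three : ∃ d ∈ 𝐑[A], orderOf d = 3 ∧ d ∉ 𝐎[A] ∧ 𝐑[A] ≤ 𝐎[𝐑[A]] ⊔ zpowers d := by
  haveI : Fact (Nat.Prime 3) := ⟨Nat.prime_three⟩
  obtain ⟨e, hi⟩ := h.idx_res
  obtain ⟨d, hd, ho⟩ := exists_orderOf_eq_prime (p := 3) (H := 𝐑[A]) (hi ▸ relIndex_dvd_card' _ _)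
  have h1 : d ∉ 𝐎[A] := fun h0 => by
    have : d ∈ 𝐎[A] ⊓ zpowers d := ⟨h0, mem_zpowers d⟩
    rw [inf_eq_bot_of_isPGroup_of_coprime (isPGroup_pCoreOf 2 A)
      (by rw [Nat.card_zpowers, ho]; norm_num), mem_bot] at this
    rw [this, orderOf_one] at ho
    omega
  exact ⟨d, hd, ho, h1, le_sup_of_index_three (le_normalizer_pCoreOf 2 _) hi hd
    fun h0 => h1 (e.le h0).1⟩

theorem dih (hc : 𝐑[A] ≤ 𝐂[𝐎[A]]) (h2 : Nat.card 𝐎[A] ≤ 2) {s : G} (hs : s ∈ B) (hs2 : s * s = 1)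
    (hsO : s ∉ 𝐎[A]) : Nonempty (A ≃* Equiv.Perm (Fin 3)) ∨ Nonempty (A ≃* DihedralGroup 6) := by
  obtain ⟨d, hd, ho, hdO, hle⟩ := h.exists_three
  have hK := pResidualOf_le 2 A
  have hO : 𝐎[𝐑[A]] ≤ 𝐎[A] := h.idx_res.1.le.trans inf_le_left
  have hdc : 𝐎[A] ≤ 𝐂[zpowers d] := le_centralizer_iff.1 (zpowers_le.2 (hc hd))
  have e1 : 𝐑[A] ≤ zpowers d := le_of_le_sup_of_pResidual (pResidualOf_idem 2 A)
    (isPGroup_pCoreOf 2 _) (hO.trans (le_normalizer_of_le_centralizer hdc)) hle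
  have hB := h.le_sup (zpowers_le.2 hs) fun h0 => hsO (zpowers_le.1 h0)
  have hd3 : d ^ 3 = 1 := ho ▸ pow_orderOf_eq_one d
  have e2 : s * d * s⁻¹ = d⁻¹ := by
    have h3 := e1 (conj_mem_of_mem_normalizer (le_normalizer_pResidualOf 2 A (h.le hs)) hd)
    have h4 : Nat.card (zpowers d) = 3 := by rw [Nat.card_zpowers, ho]
    have hd1 : d ≠ 1 := fun e => hdO (e ▸ one_mem _)
    rcases eq_of_card_three h4 (x := ⟨d, mem_zpowers d⟩) (fun e => hd1 (congrArg Subtype.val e))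
      ⟨_, h3⟩ with e | e | e
    · exact absurd (by simpa using congrArg Subtype.val e) hd1
    · have h5 : d ∈ 𝐂[B] := centralizer_anti hB (le_centralizer_sup (zpowers_le.2
        (mem_centralizer_zpowers_iff.2 (mul_inv_eq_iff_eq_mul.1 (congrArg Subtype.val e))))
        (zpowers_le.2 (hc hd)) (mem_zpowers d))
      have h6 := h.mem_of_mem_normalizer (hK hd) (centralizer_le_normalizer' _ h5)
      have : d ∈ B ⊓ zpowers d := ⟨h6, mem_zpowers d⟩
      rw [inf_eq_bot_of_isPGroup_of_coprime h.pgrp (by rw [h4]; norm_num), mem_bot] at this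
      exact absurd this hd1
    · exact congrArg Subtype.val e
  have hA : ∀ a ∈ A, zpowers d ⊔ 𝐎[A] ≤ zpowers a → A = closure {a, s} := fun a ha h0 => by
    refine le_antisymm (h.res_sup.ge.trans (sup_le ((e1.trans le_sup_left).trans (h0.trans ?_))
      (hB.trans (sup_le ?_ ((le_sup_right.trans h0).trans ?_))))) ((closure_le _).2 ?_)
    · exact zpowers_le.2 (subset_closure (by simp))
    · exact zpowers_le.2 (subset_closure (by simp))
    · exact zpowers_le.2 (subset_closure (by simp))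
    · rintro _ (rfl | rfl)
      exacts [ha, h.le hs]
  have hns : ∀ a, a * d = d * a → s ∉ zpowers a := fun a ha h0 => by
    have h3 : s * d = d * s := by
      obtain ⟨k, rfl⟩ := h0
      exact ((show Commute a d from ha).zpow_left k).eq
    rw [h3, mul_inv_cancel_right, eq_inv_iff_mul_eq_one, ← pow_two] at e2
    have := orderOf_dvd_of_pow_eq_one e2
    rw [ho] at this
    omega
  by_cases h1 : 𝐎[A] = ⊥
  · obtain ⟨e⟩ := H11.nonempty_closure_equiv_dihedral (by norm_num) ho e2 hs2 (hns d rfl)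
    obtain ⟨f⟩ := nonempty_dih_three
    exact Or.inl ⟨((MulEquiv.subgroupCongr (hA d (hK hd) (by simp [h1]))).trans e).trans f⟩
  · have h3 : Nat.card 𝐎[A] = 2 := by
      have := card_pos' 𝐎[A]
      have := mt card_eq_one.1 h1
      omega
    obtain ⟨z, hz, hz'⟩ := exists_zpowers_of_card_two h3
    have hzO : z ∈ 𝐎[A] := hz' ▸ mem_zpowers z
    have hzc : ∀ x ∈ A, x * z = z * x := fun x hx => (le_centralizer_of_card_le_two h2
      (le_normalizer_pCoreOf 2 A) hx z hzO).symm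
    have hz2 : z ^ 2 = 1 := hz ▸ pow_orderOf_eq_one z
    have hc' : Commute d z := hzc d (hK hd)
    have h4 : orderOf (d * z) = 6 := by
      rw [hc'.orderOf_mul_eq_mul_orderOf_of_coprime (by rw [ho, hz]; norm_num), ho, hz]
    obtain ⟨e⟩ := H11.nonempty_closure_equiv_dihedral (by norm_num) h4 (by
      calc s * (d * z) * s⁻¹ = s * d * s⁻¹ * (s * z * s⁻¹) := by group
        _ = d⁻¹ * z⁻¹ := by
          rw [e2, hzc s (h.le hs), mul_inv_cancel_right, inv_eq_of_mul_eq_one_right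
            (a := z) (by rw [← pow_two, hz2])]
        _ = _ := by rw [hc'.eq, mul_inv_rev]) hs2 (hns _ (by rw [mul_assoc, ← hc'.eq]))
    refine Or.inr ⟨(MulEquiv.subgroupCongr (hA _ (mul_mem (hK hd) (pCoreOf_le 2 A hzO))
      (sup_le (zpowers_le.2 ⟨4, ?_⟩) (hz' ▸ zpowers_le.2 ⟨3, ?_⟩)))).trans e⟩
    · show (d * z) ^ ((4 : ℕ) : ℤ) = d
      rw [zpow_natCast, hc'.mul_pow, pow_succ d 3, hd3, show z ^ 4 = (z ^ 2) ^ 2 by group, hz2]
      simp
    · show (d * z) ^ ((3 : ℕ) : ℤ) = z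
      rw [zpow_natCast, hc'.mul_pow, pow_succ z 2, hd3, hz2]
      simp

end Half

end Cfsg.Agent.H9K
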